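import Groth.Agent.H15Site.DescSimp.FibreCoh
import Groth.Agent.H15Site.CechSplit
import Mathlib.Topology.Category.TopCat.Limits.Basic
import Mathlib.Topology.Maps.Proper.Basic

/-!
# Proper surjective maps are of cohomological descent
-/

set_option autoImplicit false
set_option linter.style.haveILetI false
set_option linter.unusedSectionVars false
set_option backward.isDefEq.respectTransparency false
set_option backward.isDefEq.respectTransparency.types false

universe u

open CategoryTheory CategoryTheory.Limits Opposite TopologicalSpace Topology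
open Groth.Agent.H15Site.OpensFib Groth.Agent.H15Site.DescTop

noncomputable section

namespace Groth.Agent.H15Site.DescSimp

namespace Proper

open CechSplit (P)

variable {X S : TopCat.{u}} (f : X ⟶ S) {n : ℕ}

/-- The coordinates of a fibre power. -/
def coord (p : P f n) : S × (Fin n → X) :=
  (WidePullback.base (fun _ : Fin n => f) p, fun i => WidePullback.π (fun _ : Fin n => f) i p)

lemma coord_w (p : P f n) (i : Fin n) : f ((coord f p).2 i) = (coord f p).1 :=
  ConcreteCategory.congr_hom (WidePullback.π_arrow (fun _ : Fin n => f) i) p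

lemma isInducing_coord : IsInducing (coord f (n := n)) := by
  let D := WidePullbackShape.wideCospan S (fun _ : Fin n => X) (fun _ => f)
  have h := TopCat.induced_of_isLimit (limit.cone D) (limit.isLimit D)
  refine ⟨le_antisymm ?_ ?_⟩
  · exact continuous_iff_le_induced.1 ((WidePullback.base (fun _ : Fin n => f)).hom.continuous.prodMk
      (continuous_pi fun i => (WidePullback.π (fun _ : Fin n => f) i).hom.continuous))
  · refine le_of_le_of_eq ?_ h.symm
    refine le_iInf fun j => ?_
    match j with
    | none =>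
      exact (induced_mono (continuous_fst (X := S) (Y := Fin n → X)).le_induced).trans induced_compose.le
    | some i =>
      exact (induced_mono ((continuous_apply (A := fun _ : Fin n => (X : Type u)) i).comp
        (continuous_snd (X := S) (Y := Fin n → X))).le_induced).trans induced_compose.le

/-- A point of a fibre power, as a map. -/
def ptHom (t : S) (x : Fin n → X) (h : ∀ i, f (x i) = t) : TopCat.of PUnit.{u+1} ⟶ P f n :=
  WidePullback.lift (objs := fun _ : Fin n => X) (arrows := fun _ => f)
    (TopCat.ofHom (ContinuousMap.const PUnit.{u+1} t) : TopCat.of PUnit.{u+1} ⟶ S)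
    (fun i => TopCat.ofHom (ContinuousMap.const PUnit.{u+1} (x i)))
    (fun i => by ext; exact h i)

lemma ptHom_base (t : S) (x : Fin n → X) (h : ∀ i, f (x i) = t) :
    ptHom f t x h ≫ WidePullback.base (fun _ : Fin n => f) = TopCat.ofHom (ContinuousMap.const PUnit.{u+1} t) :=
  WidePullback.lift_base _ _ _ _

lemma ptHom_π (t : S) (x : Fin n → X) (h : ∀ i, f (x i) = t) (i : Fin n) :
    ptHom f t x h ≫ WidePullback.π (fun _ : Fin n => f) i = TopCat.ofHom (ContinuousMap.const PUnit.{u+1} (x i)) :=
  WidePullback.lift_π _ _ _ _ _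

/-- A point of a fibre power. -/
def point (t : S) (x : Fin n → X) (h : ∀ i, f (x i) = t) : P f n :=
  ptHom f t x h PUnit.unit

lemma coord_point (t : S) (x : Fin n → X) (h : ∀ i, f (x i) = t) : coord f (point f t x h) = (t, x) :=
  Prod.ext
    (congrArg (fun φ : TopCat.of PUnit.{u+1} ⟶ S => φ PUnit.unit) (ptHom_base f t x h) :)
    (funext fun i => (congrArg (fun φ : TopCat.of PUnit.{u+1} ⟶ X => φ PUnit.unit) (ptHom_π f t x h i) :))

lemma coord_injective : Function.Injective (coord f (n := n)) := by
  intro a b e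
  let A : TopCat.{u} := TopCat.of PUnit.{u+1}
  let ca : A ⟶ P f n := TopCat.ofHom (ContinuousMap.const PUnit.{u+1} a)
  let cb : A ⟶ P f n := TopCat.ofHom (ContinuousMap.const PUnit.{u+1} b)
  have h : ca = cb := WidePullback.hom_ext _ _ _
    (fun i => by ext; exact congr_fun (congrArg Prod.snd e) i) (by ext; exact congrArg Prod.fst e)
  exact ConcreteCategory.congr_hom h PUnit.unit

variable (hf : IsProperMap f)

include hf in
theorem isClosedMap_base : IsClosedMap (WidePullback.base (fun _ : Fin n => f)) := by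
  intro C hC
  obtain ⟨C', hC', rfl⟩ := (isInducing_coord f).isClosed_iff.1 hC
  have hcl : IsClosedMap (Prod.map (id : S → S) (fun (x : Fin n → X) i => f (x i))) :=
    (isProperMap_id.prodMap (IsProperMap.pi_map fun _ => hf)).isClosedMap
  have hγ : Continuous (fun t : S => ((t, fun _ => t) : S × (Fin n → S))) :=
    continuous_id.prodMk (continuous_pi fun _ => continuous_id)
  refine (congrArg IsClosed ?_).mpr ((hcl _ hC').preimage hγ)
  ext t
  constructor
  · rintro ⟨p, hp, rfl⟩
    exact ⟨coord f p, hp, Prod.ext rfl (funext fun i => coord_w f p i)⟩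
  · rintro ⟨⟨t', x⟩, hx, e⟩
    obtain ⟨e₁, e₂⟩ := Prod.ext_iff.1 e
    obtain rfl : t' = t := e₁
    refine ⟨point f t' x fun i => congr_fun e₂ i, ?_, congrArg Prod.fst (coord_point f t' x _)⟩
    show coord f _ ∈ C'
    rw [coord_point]
    exact hx

include hf in
theorem isCompact_fibre (t : S) : IsCompact ((WidePullback.base (fun _ : Fin n => f)) ⁻¹' {t}) := by
  rw [(isInducing_coord f).isCompact_iff]
  have e : coord f '' ((WidePullback.base (fun _ : Fin n => f)) ⁻¹' {t}) =
      ({t} : Set S) ×ˢ Set.pi Set.univ (fun _ : Fin n => f ⁻¹' {t}) := by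
    ext ⟨t', x⟩
    constructor
    · rintro ⟨p, hp, e⟩
      refine ⟨(congrArg Prod.fst e).symm.trans hp, fun i _ => ?_⟩
      show f (x i) = t
      have := congr_fun (congrArg Prod.snd e) i
      change (coord f p).2 i = x i at this
      rw [← this]
      exact (coord_w f p i).trans hp
    · rintro ⟨h1, h2⟩
      obtain rfl : t' = t := h1
      exact ⟨point f t' x fun i => h2 i trivial, congrArg Prod.fst (coord_point f t' x _), coord_point f t' x _⟩
  rw [e]
  exact isCompact_singleton.prod (isCompact_univ_pi fun _ => hf.isCompact_preimage isCompact_singleton)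

theorem sepIn_fibre (hs : ∀ x x' : X, f x = f x' → x ≠ x' →
      ∃ U V : Set X, IsOpen U ∧ IsOpen V ∧ x ∈ U ∧ x' ∈ V ∧ Disjoint U V) (t : S) :
    PBC.SepIn (X := P f n) ((WidePullback.base (fun _ : Fin n => f)) ⁻¹' {t}) := by
  intro p hp q hq hne
  by_contra hcon
  refine hne (coord_injective f (Prod.ext (hp.trans hq.symm) (funext fun i => ?_)))
  by_contra hi
  obtain ⟨U, V, hU, hV, hx, hx', hd⟩ := hs _ _ (((coord_w f p i).trans (hp.trans hq.symm)).trans
    (coord_w f q i).symm) hi
  exact hcon ⟨_, _, hU.preimage (WidePullback.π (fun _ : Fin n => f) i).hom.continuous,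
    hV.preimage (WidePullback.π (fun _ : Fin n => f) i).hom.continuous, hx, hx', hd.preimage _⟩

section Cech

variable (m : ℕ)

lemma tB_lv : tB (FibDesc.cechAug f) (lv m) = WidePullback.base (fun _ : Fin (m + 1) => f) := by
  show (FibDesc.cechAug f).map _ = _
  rw [bot_ext ((botTerminal (D := Δ)).from (lv m))
    ((WithInitial.starInitial.to (WithInitial.incl.obj (SimplexCategory.mk m))).op)]
  exact CechSplit.map_to f (SimplexCategory.mk m)

lemma map_face (i : Fin (m + 2)) :
    (FibDesc.cechAug f).map (face (m + 1) i).op = CechSplit.pm f (fun j => Fin.succAbove i j) :=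
  CechSplit.map_of f (SimplexCategory.δ i)

lemma map_face_π (i : Fin (m + 2)) (p : P f (m + 2)) (j : Fin (m + 1)) :
    WidePullback.π (fun _ : Fin (m + 1) => f) j ((FibDesc.cechAug f).map (face (m + 1) i).op p) =
      WidePullback.π (fun _ : Fin (m + 2) => f) (Fin.succAbove i j) p := by
  rw [map_face]
  exact ConcreteCategory.congr_hom (WidePullback.lift_π _ _ _ _ _) p

variable {f}

lemma fib_base {s : S} (z : fib (FibDesc.cechAug f) s (lv m)) :
    WidePullback.base (fun _ : Fin (m + 1) => f) z.1 = s :=
  (ConcreteCategory.congr_hom (tB_lv f m) z.1).symm.trans z.2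

lemma mem_fib {s : S} {p : P f (m + 1)} (h : WidePullback.base (fun _ : Fin (m + 1) => f) p = s) :
    tB (FibDesc.cechAug f) (lv m) p = s :=
  (ConcreteCategory.congr_hom (tB_lv f m) p).trans h

lemma fib_ext {s : S} {a b : fib (FibDesc.cechAug f) s (lv m)}
    (h : ∀ j, WidePullback.π (fun _ : Fin (m + 1) => f) j a.1 = WidePullback.π (fun _ : Fin (m + 1) => f) j b.1) :
    a = b := by
  refine Subtype.ext (coord_injective f (Prod.ext ?_ (funext h)))
  exact (fib_base m a).trans (fib_base m b).symm

variable (s : S) (x₀ : X) (hx₀ : f x₀ = s)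

/-- Adjoining the point as first factor. -/
def consFib : fib (FibDesc.cechAug f) s (lv m) ⟶ P f (m + 2) :=
  WidePullback.lift (objs := fun _ : Fin (m + 2) => X) (arrows := fun _ => f)
    (inc (FibDesc.cechAug f) s (lv m) ≫ WidePullback.base (fun _ : Fin (m + 1) => f))
    (Fin.cases (TopCat.ofHom (ContinuousMap.const _ x₀))
      (fun i => inc (FibDesc.cechAug f) s (lv m) ≫ WidePullback.π (fun _ : Fin (m + 1) => f) i))
    (fun j => by
      cases j using Fin.cases with
      | zero =>
        ext z
        exact hx₀.trans (fib_base m z).symm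
      | succ j =>
        show (_ ≫ _) ≫ f = _
        rw [Category.assoc, WidePullback.π_arrow])

lemma consFib_zero (z : fib (FibDesc.cechAug f) s (lv m)) :
    WidePullback.π (fun _ : Fin (m + 2) => f) 0 (consFib m s x₀ hx₀ z) = x₀ :=
  ConcreteCategory.congr_hom (WidePullback.lift_π _ _ _ _ _) z

lemma consFib_succ (z : fib (FibDesc.cechAug f) s (lv m)) (i : Fin (m + 1)) :
    WidePullback.π (fun _ : Fin (m + 2) => f) i.succ (consFib m s x₀ hx₀ z) =
      WidePullback.π (fun _ : Fin (m + 1) => f) i z.1 :=
  ConcreteCategory.congr_hom (WidePullback.lift_π _ _ _ _ _) z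

lemma consFib_mem (z : fib (FibDesc.cechAug f) s (lv m)) :
    tB (FibDesc.cechAug f) (lv (m + 1)) (consFib m s x₀ hx₀ z) = s := by
  exact mem_fib (m + 1) ((ConcreteCategory.congr_hom (WidePullback.lift_base _ _ _ _) z).trans (fib_base m z))

/-- The first step of the contraction. -/
def hh0 : fib (FibDesc.cechAug f) s (op (ix 0)) ⟶ fib (FibDesc.cechAug f) s (lv 0) :=
  TopCat.ofHom (ContinuousMap.const _ ⟨point f s (fun _ : Fin 1 => x₀) (fun _ => hx₀), by
    exact mem_fib 0 (congrArg Prod.fst (coord_point f s _ _))⟩)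

/-- The steps of the contraction. -/
def hhC : ∀ m : ℕ, fib (FibDesc.cechAug f) s (op (ix m)) ⟶ fib (FibDesc.cechAug f) s (op (ix (m + 1)))
  | 0 => hh0 s x₀ hx₀
  | m + 1 => TopCat.ofHom ⟨fun z => ⟨consFib m s x₀ hx₀ z, consFib_mem m s x₀ hx₀ z⟩,
      (consFib m s x₀ hx₀).hom.continuous.subtype_mk _⟩

/-- The fibres are contractible. -/
def contraction : Contraction (FibDesc.cechAug f) s where
  hh := hhC s x₀ hx₀
  hh_zero m z := by
    match m with
    | 0 => exact (subsingleton_fib_bot (Y := FibDesc.cechAug f) (s := s)).elim _ _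
    | m + 1 =>
      refine fib_ext m fun j => ?_
      refine (map_face_π f m 0 _ j).trans ?_
      rw [Fin.succAbove_zero]
      exact consFib_succ m s x₀ hx₀ z j
  hh_succ m i z := by
    match m with
    | 0 =>
      refine fib_ext 0 fun j => ?_
      refine (map_face_π f 0 i.succ _ j).trans ?_
      obtain rfl : i = 0 := Fin.fin_one_eq_zero i
      obtain rfl : j = 0 := Fin.fin_one_eq_zero j
      exact (consFib_zero 0 s x₀ hx₀ z).trans
        (congr_fun (congrArg Prod.snd (coord_point f s (fun _ : Fin 1 => x₀) (fun _ => hx₀))) 0).symm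
    | m + 1 =>
      refine fib_ext (m + 1) fun j => ?_
      refine (map_face_π f (m + 1) i.succ _ j).trans ?_
      cases j using Fin.cases with
      | zero =>
        rw [Fin.succ_succAbove_zero]
        exact (consFib_zero _ s x₀ hx₀ z).trans (consFib_zero _ s x₀ hx₀ _).symm
      | succ j =>
        rw [Fin.succ_succAbove_succ]
        refine (consFib_succ _ s x₀ hx₀ z _).trans (Eq.trans ?_ (consFib_succ _ s x₀ hx₀ _ j).symm)
        exact (map_face_π f m i z.1 j).symm

end Cech

variable (hs : ∀ x x' : X, f x = f x' → x ≠ x' →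
    ∃ U V : Set X, IsOpen U ∧ IsOpen V ∧ x ∈ U ∧ x' ∈ V ∧ Disjoint U V) (hsurj : Function.Surjective f)

include hf hs hsurj in
/-- **Proper surjective maps are of cohomological descent.** -/
theorem isCohDescentMap : FibDesc.IsCohDescentMap f := by
  let Y := FibDesc.cechAug f
  have hcl : ∀ m, IsClosedMap (tB Y (lv m)) := fun m => by
    exact (congrArg (fun g : Y.obj (lv m) ⟶ base Y => IsClosedMap g) (tB_lv f m)).mpr (isClosedMap_base f hf)
  have hcpt : ∀ (s : base Y) m, CompactSpace (fib Y s (lv m)) := fun s m => by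
    refine isCompact_iff_compactSpace.1 ?_
    exact (congrArg (fun g : Y.obj (lv m) ⟶ base Y => IsCompact (g ⁻¹' {s})) (tB_lv f m)).mpr
      (isCompact_fibre f hf s)
  have hsep : ∀ (s : base Y) m, PBC.SepIn (Set.range (inc Y s (lv m))) := fun s m => by
    refine (sepIn_fibre f hs s).mono ?_
    rintro _ ⟨z, rfl⟩
    exact fib_base m z
  refine isCohDescentTop_of_stalks Y (fun G _ => ?_) (fun G _ J _ hJ ι₀ _ s => ?_)
  · suffices h : ∀ s : base Y, Function.Bijective ((stk s).map ((θAdj Y).unit.app G)).hom by
      haveI : ∀ s : base Y, IsIso ((TopCat.Presheaf.stalkFunctor AddCommGrpCat.{u} s).map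
          ((θAdj Y).unit.app G).hom) := fun s => (ConcreteCategory.isIso_iff_bijective _).2 (h s)
      exact TopCat.Presheaf.isIso_of_stalkFunctor_map_iso
        (show (G : TopCat.Sheaf AddCommGrpCat.{u} (base Y)) ⟶
          ((θS Y).obj ((θP Y).obj G) : TopCat.Sheaf AddCommGrpCat.{u} (base Y)) from (θAdj Y).unit.app G)
    intro s
    obtain ⟨x₀, hx₀⟩ := hsurj s
    refine bijective_stk_unit G s (hcl 0) ⟨hh0 s x₀ hx₀ ⟨s, ?_⟩⟩ fun a b => ?_
    · show tB Y (FibDesc.bot Δ) s = s
      exact ConcreteCategory.congr_hom ((congrArg Y.map (bot_ext _ _)).trans (Y.map_id _)) s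
    · have ha : ∀ c : fib Y s (lv 0), WidePullback.base (fun _ : Fin 1 => f) c.1 = s := fun c =>
        fib_base 0 c
      let ca := WidePullback.π (fun _ : Fin 1 => f) 0 a.1
      let cb := WidePullback.π (fun _ : Fin 1 => f) 0 b.1
      have hw : ∀ i : Fin 2, f ((![cb, ca] : Fin 2 → X) i) = s := fun i => by
        match i with
        | 0 => exact (coord_w f b.1 0).trans (ha b)
        | 1 => exact (coord_w f a.1 0).trans (ha a)
      refine ⟨⟨point f s ![cb, ca] hw, ?_⟩, fib_ext 0 fun j => ?_, fib_ext 0 fun j => ?_⟩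
      · exact mem_fib 1 (congrArg Prod.fst (coord_point f s _ _))
      · refine (map_face_π f 0 0 _ j).trans ?_
        obtain rfl : j = 0 := Fin.fin_one_eq_zero j
        exact congr_fun (congrArg Prod.snd (coord_point f s ![cb, ca] hw)) 1
      · refine (map_face_π f 0 1 _ j).trans ?_
        obtain rfl : j = 0 := Fin.fin_one_eq_zero j
        exact congr_fun (congrArg Prod.snd (coord_point f s ![cb, ca] hw)) 0
  · obtain ⟨x₀, hx₀⟩ := hsurj s
    exact col_exact_of_contraction Y s G J ι₀ hJ (contraction s x₀ hx₀) hcl (hcpt s) (hsep s)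

end Proper

end Groth.Agent.H15Site.DescSimp
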