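import Mathlib.Algebra.Homology.HomologySequence
import Mathlib.Algebra.Homology.HomologicalComplexAbelian
import Mathlib.Algebra.Category.Grp.Abelian
import Mathlib.Algebra.Category.Grp.Limits
import Mathlib.Algebra.Category.Grp.Kernels
import Mathlib.Algebra.Homology.ShortComplex.Ab
import Mathlib.Algebra.Homology.HomologicalComplexLimits
import Mathlib.CategoryTheory.Abelian.Basic
import Mathlib.Algebra.Category.Grp.Zero

/-!
# A double complex with exact rows whose column cohomology has exact rows
-/

set_option autoImplicit false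
set_option linter.style.haveILetI false
set_option linter.unusedSectionVars false

universe u

open CategoryTheory CategoryTheory.Limits

noncomputable section

namespace Groth.Agent.H15Site.DescSimp.Cascade

variable (C : ℕ → CochainComplex AddCommGrpCat.{u} ℤ) (d : ∀ m, C m ⟶ C (m + 1))
  (dd : ∀ m, d m ≫ d (m + 1) = 0)

/-- The cycles of the rows. -/
abbrev Z (m : ℕ) : CochainComplex AddCommGrpCat.{u} ℤ := kernel (d m)

/-- The projection to the next cycles. -/
def proj (m : ℕ) : C m ⟶ Z C d (m + 1) := kernel.lift (d (m + 1)) (d m) (dd m)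

lemma proj_ι (m : ℕ) : proj C d dd m ≫ kernel.ι (d (m + 1)) = d m := kernel.lift_ι _ _ _

/-- The short complex of cycles. -/
def sc (m : ℕ) : ShortComplex (CochainComplex AddCommGrpCat.{u} ℤ) :=
  ShortComplex.mk (kernel.ι (d m)) (proj C d dd m) (by
    rw [← cancel_mono (kernel.ι (d (m + 1))), Category.assoc, proj_ι, kernel.condition, zero_comp])

variable (hrow : ∀ (m : ℕ) (q : ℤ) (x : (C (m + 1)).X q), ((d (m + 1)).f q).hom x = 0 →
  ∃ y, ((d m).f q).hom y = x)

include hrow in
theorem epi_proj (m : ℕ) : Epi (proj C d dd m) := by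
  haveI : ∀ q, Epi ((proj C d dd m).f q) := fun q => by
    rw [AddCommGrpCat.epi_iff_surjective]
    intro z
    obtain ⟨y, hy⟩ := hrow m q (((kernel.ι (d (m + 1))).f q).hom z)
      (ConcreteCategory.congr_hom (congrArg (fun φ : Z C d (m + 1) ⟶ C (m + 2) => φ.f q)
        (kernel.condition (d (m + 1)))) z)
    refine ⟨y, ?_⟩
    have hinj : Function.Injective ((kernel.ι (d (m + 1))).f q).hom :=
      (AddCommGrpCat.mono_iff_injective _).1
        ((HomologicalComplex.eval AddCommGrpCat.{u} (ComplexShape.up ℤ) q).map_mono (kernel.ι (d (m + 1))))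
    apply hinj
    exact (ConcreteCategory.congr_hom (congrArg (fun φ : C m ⟶ C (m + 1) => φ.f q) (proj_ι C d dd m)) y).trans hy
  exact HomologicalComplex.epi_of_epi_f _ inferInstance

include hrow in
theorem shortExact_sc (m : ℕ) : (sc C d dd m).ShortExact := by
  haveI := epi_proj C d dd hrow m
  refine { exact := ?_, mono_f := inferInstanceAs (Mono (kernel.ι (d m))), epi_g := inferInstanceAs (Epi (proj C d dd m)) }
  refine ShortComplex.exact_of_f_is_kernel _ ?_
  exact KernelFork.IsLimit.ofι _ _
    (fun {W} (g : W ⟶ C m) (hg : g ≫ proj C d dd m = 0) => kernel.lift (d m) g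
      ((congrArg (g ≫ ·) (proj_ι C d dd m).symm).trans ((Category.assoc _ _ _).symm.trans
        ((congrArg (· ≫ kernel.ι (d (m + 1))) hg).trans zero_comp))))
    (fun {W} g hg => kernel.lift_ι _ _ _)
    (fun {W} g hg k hk => (cancel_mono (kernel.ι (d m))).1 (hk.trans (kernel.lift_ι _ _ _).symm))

/-- The map on cohomology. -/
abbrev Hd (m : ℕ) (n : ℤ) : (C m).homology n ⟶ (C (m + 1)).homology n :=
  HomologicalComplex.homologyMap (d m) n

variable (hneg : ∀ m q, q < 0 → IsZero ((C m).X q))
  (hex : ∀ (m : ℕ), 1 ≤ m → ∀ (n : ℤ) (z : (C (m + 1)).homology n), (Hd C d (m + 1) n).hom z = 0 →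
    ∃ y, (Hd C d m n).hom y = z)

include dd hrow hneg hex in
theorem cycles_homology (n : ℤ) : ∀ m : ℕ, 1 ≤ m →
    Function.Injective (HomologicalComplex.homologyMap (kernel.ι (d m)) n).hom ∧
    ∀ z : (C m).homology n, (Hd C d m n).hom z = 0 →
      ∃ w, (HomologicalComplex.homologyMap (kernel.ι (d m)) n).hom w = z := by
  suffices H : ∀ k : ℕ, ∀ n : ℤ, n < k → ∀ m : ℕ, 1 ≤ m →
      Function.Injective (HomologicalComplex.homologyMap (kernel.ι (d m)) n).hom ∧
      ∀ z : (C m).homology n, (Hd C d m n).hom z = 0 →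
        ∃ w, (HomologicalComplex.homologyMap (kernel.ι (d m)) n).hom w = z from
    H (n + 1).toNat n (by omega)
  intro k
  induction k with
  | zero =>
    intro n hn m _
    have hn' : n < 0 := by simpa using hn
    haveI h1 : Subsingleton ((Z C d m).homology n) := by
      refine AddCommGrpCat.subsingleton_of_isZero (HomologicalComplex.ExactAt.isZero_homology
        (ShortComplex.exact_of_isZero_X₂ _ ?_))
      haveI hm : Mono ((kernel.ι (d m)).f n) :=
        (HomologicalComplex.eval AddCommGrpCat.{u} (ComplexShape.up ℤ) n).map_mono (kernel.ι (d m))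
      exact @IsZero.of_mono _ _ _ _ _ ((kernel.ι (d m)).f n) hm (hneg m n hn')
    haveI h2 : Subsingleton ((C m).homology n) := AddCommGrpCat.subsingleton_of_isZero
      (HomologicalComplex.ExactAt.isZero_homology (ShortComplex.exact_of_isZero_X₂ _ (hneg m n hn')))
    exact ⟨fun a b _ => h1.elim a b, fun z _ => ⟨0, h2.elim _ _⟩⟩
  | succ k ih =>
    intro n hn m hm
    have hinj : ∀ m : ℕ, 1 ≤ m →
        Function.Injective (HomologicalComplex.homologyMap (kernel.ι (d m)) n).hom := by
      intro m hm
      refine (injective_iff_map_eq_zero _).2 fun w hw => ?_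
      have hS := shortExact_sc C d dd hrow m
      obtain ⟨z, hz⟩ := (ShortComplex.ab_exact_iff _).1 (hS.homology_exact₁ (n - 1) n (by simp)) w hw
      obtain ⟨hi, -⟩ := ih (n - 1) (by omega) (m + 1) (by omega)
      let ιz := (HomologicalComplex.homologyMap (kernel.ι (d (m + 1))) (n - 1)).hom z
      have h0 : (Hd C d (m + 1) (n - 1)).hom ιz = 0 := by
        refine (ConcreteCategory.congr_hom (HomologicalComplex.homologyMap_comp (kernel.ι (d (m + 1))) (d (m + 1)) _).symm z).trans ?_
        exact (congrArg (fun φ : Z C d (m + 1) ⟶ C (m + 2) => (HomologicalComplex.homologyMap φ (n - 1)).hom z)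
          (kernel.condition (d (m + 1)))).trans (by rw [HomologicalComplex.homologyMap_zero]; rfl)
      obtain ⟨y, hy⟩ := hex m hm (n - 1) ιz h0
      have hzy : (HomologicalComplex.homologyMap (proj C d dd m) (n - 1)).hom y = z := by
        apply hi
        refine (ConcreteCategory.congr_hom (HomologicalComplex.homologyMap_comp _ _ _).symm y).trans ?_
        rw [proj_ι]
        exact hy
      rw [← hz, ← hzy]
      exact ConcreteCategory.congr_hom (hS.comp_δ (n - 1) n (by simp)) y
    refine ⟨hinj m hm, fun z hz => ?_⟩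
    refine (ShortComplex.ab_exact_iff _).1 ((shortExact_sc C d dd hrow m).homology_exact₂ n) z ?_
    apply hinj (m + 1) (by omega)
    refine Eq.trans ?_ (map_zero _).symm
    refine (ConcreteCategory.congr_hom (HomologicalComplex.homologyMap_comp _ _ _).symm z).trans ?_
    show (HomologicalComplex.homologyMap (proj C d dd m ≫ kernel.ι (d (m + 1))) n).hom z = 0
    rw [proj_ι]
    exact hz

include dd hrow hneg hex in
theorem first_column (hmono : ∀ q (x : (C 0).X q), ((d 0).f q).hom x = 0 → x = 0) (n : ℤ) :
    Function.Injective (Hd C d 0 n).hom ∧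
      ∀ z, (Hd C d 1 n).hom z = 0 → ∃ w, (Hd C d 0 n).hom w = z := by
  haveI := epi_proj C d dd hrow 0
  haveI : Mono (d 0) := by
    haveI : ∀ q, Mono ((d 0).f q) := fun q => by
      rw [AddCommGrpCat.mono_iff_injective]
      exact (injective_iff_map_eq_zero _).2 (hmono q)
    exact HomologicalComplex.mono_of_mono_f _ inferInstance
  haveI : Mono (proj C d dd 0) := mono_of_mono_fac (proj_ι C d dd 0)
  haveI : IsIso (proj C d dd 0) := isIso_of_mono_of_epi _
  obtain ⟨h1, h2⟩ := cycles_homology C d dd hrow hneg hex n 1 le_rfl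
  have hb := ConcreteCategory.bijective_of_isIso
    (HomologicalComplex.homologyMapIso (asIso (proj C d dd 0)) n).hom
  have e : ∀ w, (Hd C d 0 n).hom w = (HomologicalComplex.homologyMap (kernel.ι (d 1)) n).hom
      ((HomologicalComplex.homologyMap (proj C d dd 0) n).hom w) := fun w => by
    conv_lhs => rw [Hd, ← proj_ι C d dd 0, HomologicalComplex.homologyMap_comp]
    rfl
  refine ⟨fun a b hab => hb.1 (h1 ((e a).symm.trans (hab.trans (e b)))), fun z hz => ?_⟩
  obtain ⟨w, hw⟩ := h2 z hz
  obtain ⟨v, rfl⟩ := hb.2 w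
  exact ⟨v, (e v).trans hw⟩

end Groth.Agent.H15Site.DescSimp.Cascade
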