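import Groth.Agent.H15Site.DescSimp.DescSS
import Groth.Agent.H15Site.DescSimp.Cascade
import Groth.Agent.H15Site.PBC.Cmap
import Groth.Agent.H16Derived.AcyclicLES

/-!
# A stalkwise criterion for cohomological descent
-/

set_option autoImplicit false
set_option linter.style.haveILetI false
set_option linter.unusedSectionVars false
set_option backward.isDefEq.respectTransparency false
set_option backward.isDefEq.respectTransparency.types false

universe u

open CategoryTheory CategoryTheory.Limits Opposite Pseudofunctor Pseudofunctor.CoGrothendieck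
open TopologicalSpace Groth.Agent.H15Site.OpensFib Groth.Agent.H15Site.DescTop

noncomputable section

namespace Groth.Agent.H15Site.DescSimp

attribute [local instance 10000] SiteInst.hasSheafifySite SiteInst.hasWeakSheafifySite
  SiteInst.hasExtSite SiteInst.enoughInjSite

attribute [local instance] HasDerivedCategory.standard

variable (Y : K Δ ⥤ TopCat.{u})

instance (priority := 10000) preservesFiniteLimits_stk {S : TopCat.{u}} (s : S) :
    PreservesFiniteLimits (stk s) := inferInstanceAs
  (PreservesFiniteLimits (TopCat.Sheaf.forget AddCommGrpCat.{u} S ⋙ TopCat.Presheaf.stalkFunctor _ s))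

instance (priority := 10000) preservesFiniteColimits_stk {S : TopCat.{u}} (s : S) :
    PreservesFiniteColimits (stk s) := inferInstanceAs
  (PreservesFiniteColimits (TopCat.Sheaf.forget AddCommGrpCat.{u} S ⋙ TopCat.Presheaf.stalkFunctor _ s))

/-- The stalk of a row. -/
abbrev SF (s : base Y) (m : ℕ) : P₀ Y ⥤ Ab.{u} := RowF Y m ⋙ stk s

/-- The stalk of the differential. -/
def sD (s : base Y) (m : ℕ) : SF Y s m ⟶ SF Y s (m + 1) := Functor.whiskerRight (rowNat Y m) (stk s)

variable (J : CochainComplex (P₀ Y) ℤ)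

/-- The stalk columns. -/
abbrev sC (s : base Y) (m : ℕ) : CochainComplex Ab.{u} ℤ :=
  ((SF Y s m).mapHomologicalComplex (ComplexShape.up ℤ)).obj J

/-- The differential between stalk columns. -/
abbrev sCd (s : base Y) (m : ℕ) : sC Y J s m ⟶ sC Y J s (m + 1) :=
  (NatTrans.mapHomologicalComplex (sD Y s m) (ComplexShape.up ℤ)).app J

theorem sCd_sCd (s : base Y) (m : ℕ) : sCd Y J s m ≫ sCd Y J s (m + 1) = 0 := by
  refine HomologicalComplex.hom_ext _ _ fun q => ?_
  show (stk s).map ((rowNat Y m).app (J.X q)) ≫ (stk s).map ((rowNat Y (m + 1)).app (J.X q)) = 0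
  rw [← Functor.map_comp,
    show (rowNat Y m).app (J.X q) ≫ (rowNat Y (m + 1)).app (J.X q) = 0 from
      congr_app (rowNat_rowNat (Y := Y) m) (J.X q)]
  exact Functor.map_zero _ _ _

variable {Y}

/-- The stalk differential on a germ. -/
lemma sD_germ (s : base Y) (m : ℕ) (M : P₀ Y) {V : Opens (base Y)} (hV : s ∈ V)
    (x : ((RowF Y m).obj M).obj.obj (op V)) :
    ((sD Y s m).app M).hom (PBC.gm ((RowF Y m).obj M) s hV x) =
      PBC.gm ((RowF Y (m + 1)).obj M) s hV (((rowNat Y m).app M).hom.app (op V) x) :=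
  TopCat.Presheaf.stalkFunctor_map_germ_apply V s hV ((rowNat Y m).app M).hom x

theorem eq_zero_of_sD (s : base Y) (M : P₀ Y) (a : (SF Y s 0).obj M)
    (h : ((sD Y s 0).app M).hom a = 0) : a = 0 := by
  obtain ⟨V, hV, x, rfl⟩ := TopCat.Presheaf.exists_germ_eq ((RowF Y 0).obj M).obj a
  obtain ⟨W, hW, i, i', e⟩ := TopCat.Presheaf.germ_eq ((RowF Y 1).obj M).obj s hV hV
    (((rowNat Y 0).app M).hom.app (op V) x) 0 (((sD_germ s 0 M hV x).symm.trans h).trans (map_zero _).symm)
  have e' := e.trans (map_zero _)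
  have hx : ((RowF Y 0).obj M).obj.map i.op x = 0 := eq_zero_of_rowNat M W _
    ((ConcreteCategory.congr_hom (((rowNat Y 0).app M).hom.naturality i.op) x).trans e')
  refine (TopCat.Presheaf.germ_res_apply ((RowF Y 0).obj M).obj i s hW x).symm.trans ?_
  exact (congrArg _ hx).trans (map_zero _)

theorem exists_sD_eq (s : base Y) (M : P₀ Y) [Injective M] (m : ℕ) (a : (SF Y s (m + 1)).obj M)
    (h : ((sD Y s (m + 1)).app M).hom a = 0) : ∃ b, ((sD Y s m).app M).hom b = a := by
  obtain ⟨V, hV, x, rfl⟩ := TopCat.Presheaf.exists_germ_eq ((RowF Y (m + 1)).obj M).obj a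
  obtain ⟨W, hW, i, i', e⟩ := TopCat.Presheaf.germ_eq ((RowF Y (m + 2)).obj M).obj s hV hV
    (((rowNat Y (m + 1)).app M).hom.app (op V) x) 0
    (((sD_germ s (m + 1) M hV x).symm.trans h).trans (map_zero _).symm)
  have e' := e.trans (map_zero _)
  obtain ⟨y, hy⟩ := exists_rowNat_eq M W m (((RowF Y (m + 1)).obj M).obj.map i.op x)
    ((ConcreteCategory.congr_hom (((rowNat Y (m + 1)).app M).hom.naturality i.op) x).trans e')
  refine ⟨PBC.gm ((RowF Y m).obj M) s hW y, (sD_germ s m M hW y).trans ?_⟩
  exact (congrArg _ hy).trans (TopCat.Presheaf.germ_res_apply ((RowF Y (m + 1)).obj M).obj i s hW x)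

variable (Y)

/-- The zeroth row is the direct image to the base. -/
def row0Iso : RowF Y 0 ≅ θS Y :=
  Functor.isoWhiskerLeft (Col Y (FibDesc.bot Δ))
      (eqToIso (congrArg CohTop.push
        (show tB Y (FibDesc.bot Δ) = 𝟙 (base Y) from
          (congrArg Y.map (bot_ext _ _)).trans (Y.map_id _)))) ≪≫
    NatIso.ofComponents (fun M => Iso.refl _) (fun _ => (Category.comp_id _).trans (Category.id_comp _).symm)

/-- **The criterion.** -/
theorem isCohDescentTop_of_stalks
    (hunit : ∀ X : CohTop.Ab (base Y), Injective X → IsIso ((θAdj Y).unit.app X))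
    (hcol : ∀ (X : CohTop.Ab (base Y)), Injective X → ∀ (J : CochainComplex (P₀ Y) ℤ),
      J.IsStrictlyGE 0 → (∀ q, Injective (J.X q)) →
      ∀ (ι₀ : (CochainComplex.singleFunctor (P₀ Y) 0).obj ((θP Y).obj X) ⟶ J), QuasiIso ι₀ →
      ∀ s : base Y,
        (∀ (m : ℕ), 1 ≤ m → ∀ (n : ℤ) (z : (sC Y J s (m + 1)).homology n),
          (Cascade.Hd (sC Y J s) (sCd Y J s) (m + 1) n).hom z = 0 →
            ∃ y, (Cascade.Hd (sC Y J s) (sCd Y J s) m n).hom y = z) ∧
        ∀ (n : ℕ), 0 < n → ∀ z : (sC Y J s 1).homology (n : ℤ),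
          (Cascade.Hd (sC Y J s) (sCd Y J s) 1 (n : ℤ)).hom z = 0 → z = 0) :
    FibDesc.IsCohDescentTop Y := by
  have hac : ∀ X : CohTop.Ab (base Y), Injective X →
      H16Derived.AcyclicLES.IsAcyclic (θS Y) ((θP Y).obj X) := by
    intro X hX n hn
    let R := injectiveResolution ((θP Y).obj X)
    let J := R.cochainComplex
    obtain ⟨e⟩ := H16Derived.AcyclicLES.nonempty_rightDerived_iso (θS Y) J 0 (fun q => inferInstance) R.ι' n
    refine IsZero.of_iso ?_ e
    let L := ((θS Y).mapHomologicalComplex (ComplexShape.up ℤ)).obj J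
    have key : ∀ s : base Y, Subsingleton ((stk s).obj (L.homology (n : ℤ))) := by
      intro s
      obtain ⟨h1, h2⟩ := hcol X hX J inferInstance (fun q => inferInstance) R.ι' inferInstance s
      have hneg : ∀ m q, q < 0 → IsZero ((sC Y J s m).X q) := fun m q hq =>
        (stk s).map_isZero ((CohTop.push _).map_isZero ((Col Y _).map_isZero
          (CochainComplex.isZero_of_isStrictlyGE J 0 q hq)))
      obtain ⟨hi, -⟩ := Cascade.first_column (sC Y J s) (sCd Y J s) (sCd_sCd Y J s)
        (fun m q x hx => exists_sD_eq s (J.X q) m x hx) hneg h1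
        (fun q x hx => eq_zero_of_sD s (J.X q) x hx) n
      have h0 : ∀ z : (sC Y J s 0).homology (n : ℤ), z = 0 := fun z => by
        refine hi ((h2 n hn _ ?_).trans (map_zero _).symm)
        refine (ConcreteCategory.congr_hom (HomologicalComplex.homologyMap_comp _ _ _).symm z).trans ?_
        rw [sCd_sCd, HomologicalComplex.homologyMap_zero]
        rfl
      haveI : Subsingleton ((sC Y J s 0).homology (n : ℤ)) := ⟨fun a b => (h0 a).trans (h0 b).symm⟩
      let e' : (sC Y J s 0).homology (n : ℤ) ≅ (stk s).obj (L.homology (n : ℤ)) :=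
        HomologicalComplex.homologyMapIso
          ((NatIso.mapHomologicalComplex (Functor.isoWhiskerRight (row0Iso Y) (stk s))
            (ComplexShape.up ℤ)).app J) (n : ℤ) ≪≫ (L.sc (n : ℤ)).mapHomologyIso (stk s)
      exact e'.addCommGroupIsoToAddEquiv.toEquiv.symm.subsingleton
    rw [IsZero.iff_id_eq_zero]
    refine ObjectProperty.hom_ext _ (NatTrans.ext (funext fun U => ?_))
    ext x
    exact TopCat.Presheaf.section_ext (L.homology (n : ℤ) : TopCat.Sheaf AddCommGrpCat.{u} (base Y)) _ _ _
      fun s _ => (key s).elim _ _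
  haveI : (FibDesc.eps (F Y)).IsContinuous (OpensFib.J Y (FibDesc.bot Δ))
    (FibDesc.totAug (F Y) (OpensFib.J Y)) := isContinuous_eps Y
  refine ⟨inferInstance, inferInstance, inferInstance, inferInstance, inferInstance,
    preservesFiniteLimits_θP Y, ?_⟩
  intro K₀ L₀
  obtain ⟨b, hb⟩ := L₀.property
  haveI := hb
  refine DerivedFF.bijective_map (θAdj Y) ?_ K₀.obj L₀.obj b
  intro I i hI hIinj J j hJ hJinj a ha
  haveI := hI
  haveI := hJ
  haveI := ha
  let P := ((θP Y).mapHomologicalComplex (ComplexShape.up ℤ)).obj I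
  let c := min i j
  haveI : I.IsStrictlyGE c := CochainComplex.isStrictlyGE_of_ge I c i (min_le_left _ _)
  haveI : J.IsStrictlyGE c := CochainComplex.isStrictlyGE_of_ge J c j (min_le_right _ _)
  haveI : CochainComplex.IsStrictlyGE P c := by
    rw [CochainComplex.isStrictlyGE_iff]
    exact fun k hk => (θP Y).map_isZero (CochainComplex.isZero_of_isStrictlyGE I c k hk)
  haveI := H16Derived.AcyclicLES.quasiIso_map (θS Y) a c (fun k => hac (I.X k) (hIinj k))
    (fun k => haveI := hJinj k; H16Derived.AcyclicLES.isAcyclic_of_injective (θS Y) (J.X k))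
  let u : I ≅ ((θS Y).mapHomologicalComplex (ComplexShape.up ℤ)).obj P :=
    HomologicalComplex.Hom.isoOfComponents
      (fun k => @asIso _ _ _ _ ((θAdj Y).unit.app (I.X k)) (hunit (I.X k) (hIinj k)))
      (fun k l _ => ((θAdj Y).unit.naturality (I.d k l)).symm)
  rw [show DerivedFF.adjunct (θAdj Y) a = u.hom ≫ ((θS Y).mapHomologicalComplex (ComplexShape.up ℤ)).map a by
    ext k
    rfl]
  exact quasiIso_comp _ _

end Groth.Agent.H15Site.DescSimp
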