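import Groth.Agent.H15Site.DescSimp.Pull
import Groth.Agent.H15Site.DerivedFF
import Groth.Agent.H15Site.DescTop.TopRes
import Groth.Agent.H15Site.DoubleSS.Engine
import Mathlib.Algebra.Homology.Embedding.Basic
import Mathlib.Algebra.Homology.Embedding.Extend

/-!
# The descent spectral sequence of an augmented simplicial space of cohomological descent
-/

set_option autoImplicit false
set_option linter.style.haveILetI false
set_option linter.unusedSectionVars false
set_option backward.isDefEq.respectTransparency false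
set_option backward.isDefEq.respectTransparency.types false

universe u

open CategoryTheory CategoryTheory.Limits Opposite Pseudofunctor Pseudofunctor.CoGrothendieck
open TopologicalSpace Groth.Agent.H15Site.OpensFib Groth.Agent.H15Site.DescTop

noncomputable section

namespace Groth.Agent.H15Site.DescSimp

attribute [local instance 10000] SiteInst.hasSheafifySite SiteInst.hasWeakSheafifySite
  SiteInst.hasExtSite SiteInst.enoughInjSite

attribute [local instance] HasDerivedCategory.standard

variable (Y : K Δ ⥤ TopCat.{u})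

/-- Global sections of a row. -/
abbrev GF (m : ℕ) : P₀ Y ⥤ Ab.{u} := RowF Y m ⋙ PullCoh.Γ (base Y)

instance (priority := 10000) additive_ranS : (OpensRestrict.ranS Y).Additive :=
  haveI : (SplitDescent.inclS Y).Additive := { }
  ((FibDesc.incl (F Y)).sheafAdjunctionCocontinuous Ab.{u} (FibDesc.totPart (F Y) (J Y))
      (FibDesc.totAug (F Y) (J Y))).right_adjoint_additive
instance (priority := 10000) additive_restrA (k : K Δ) : (restrA Y k).Additive := { }
instance (priority := 10000) additive_θS : (θS Y).Additive where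
  map_add {M N f g} := by
    show (restrA Y (FibDesc.bot Δ)).map ((OpensRestrict.ranS Y).map (f + g)) = _
    rw [(OpensRestrict.ranS Y).map_add]
    exact (restrA Y (FibDesc.bot Δ)).map_add
instance (priority := 10000) additive_θP : (θP Y).Additive := (θAdj Y).left_adjoint_additive
instance (priority := 10000) preservesZero_θP : (θP Y).PreservesZeroMorphisms :=
  @Functor.preservesZeroMorphisms_of_additive _ _ _ _ _ _ (θP Y) (additive_θP Y)
instance (priority := 10000) preservesZero_θS : (θS Y).PreservesZeroMorphisms :=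
  @Functor.preservesZeroMorphisms_of_additive _ _ _ _ _ _ (θS Y) (additive_θS Y)
instance (priority := 10000) preservesFiniteLimits_θP : PreservesFiniteLimits (θP Y) :=
  SplitDescent.preservesFiniteLimits_pull Y
instance (priority := 10000) preservesFiniteColimits_θP : PreservesFiniteColimits (θP Y) :=
  haveI : PreservesColimitsOfSize.{0, 0} (θP Y) := (θAdj Y).leftAdjoint_preservesColimits
  PreservesColimitsOfSize.preservesFiniteColimits _
instance (priority := 10000) preservesHomology_θP : (θP Y).PreservesHomology :=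
  inferInstance

variable (J : CochainComplex (P₀ Y) ℤ)

/-- The columns. -/
def colsC : CochainComplex (CochainComplex Ab.{u} ℤ) ℕ :=
  CochainComplex.of (fun m => ((GF Y m).mapHomologicalComplex (ComplexShape.up ℤ)).obj J)
    (fun m => (NatTrans.mapHomologicalComplex (Functor.whiskerRight (rowNat Y m) (PullCoh.Γ (base Y)))
      (ComplexShape.up ℤ)).app J)
    (fun m => by
      refine HomologicalComplex.hom_ext _ _ fun q => ?_
      show ((rowNat Y m).app (J.X q)).hom.app (op ⊤) ≫ ((rowNat Y (m + 1)).app (J.X q)).hom.app (op ⊤) = 0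
      exact congrArg (fun φ => φ.hom.app (op ⊤)) (congr_app (rowNat_rowNat (Y := Y) m) (J.X q)))

/-- The double complex. -/
def dbl : DoubleSS.Dbl.{u} := (colsC Y J).extend (ComplexShape.embeddingUpIntGE (-1))

/-- The columns of the double complex. -/
def colIso (m : ℕ) (p : ℤ) (hm : (-1 : ℤ) + m = p) :
    (dbl Y J).X p ≅ ((GF Y m).mapHomologicalComplex (ComplexShape.up ℤ)).obj J :=
  (colsC Y J).extendXIso (ComplexShape.embeddingUpIntGE (-1)) (show (-1 : ℤ) + m = p from hm) ≪≫
    eqToIso rfl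

lemma d_f (m : ℕ) (p p' : ℤ) (hm : (-1 : ℤ) + m = p) (hm' : (-1 : ℤ) + (m + 1 : ℕ) = p') (q : ℤ)
    (x : ((dbl Y J).X p).X q) :
    ((colIso Y J (m + 1) p' hm').hom.f q).hom ((((dbl Y J).d p p').f q).hom x) =
      (((rowNat Y m).app (J.X q)).hom.app (op ⊤)).hom (((colIso Y J m p hm).hom.f q).hom x) := by
  have h : (dbl Y J).d p p' ≫ (colIso Y J (m + 1) p' hm').hom = (colIso Y J m p hm).hom ≫
      (NatTrans.mapHomologicalComplex (Functor.whiskerRight (rowNat Y m) (PullCoh.Γ (base Y)))
        (ComplexShape.up ℤ)).app J := by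
    show ((colsC Y J).extend (ComplexShape.embeddingUpIntGE (-1))).d p p' ≫ _ = _
    rw [HomologicalComplex.extend_d_eq _ _ (show (ComplexShape.embeddingUpIntGE (-1)).f m = p from hm)
      (show (ComplexShape.embeddingUpIntGE (-1)).f (m + 1) = p' from hm')]
    simp only [colIso, eqToIso_refl, Iso.trans_refl, Category.assoc, Iso.inv_hom_id, Category.comp_id]
    congr 1
    simp [colsC, CochainComplex.of_d]
  exact ConcreteCategory.congr_hom (congrArg (fun (φ : (dbl Y J).X p ⟶ _) => φ.f q) h) x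

/-- Resolutions give resolutions of the levels. -/
theorem nonempty_level_homology (F : CohTop.Ab (base Y)) (hJ : ∀ q, Injective (J.X q))
    [J.IsStrictlyGE 0]
    (ι₀ : (CochainComplex.singleFunctor (P₀ Y) 0).obj ((θP Y).obj F) ⟶ J) [QuasiIso ι₀]
    (n : ℕ) (q : ℕ) :
    Nonempty ((((GF Y (n + 1)).mapHomologicalComplex (ComplexShape.up ℤ)).obj J).homology (q : ℤ) ≅
      AddCommGrpCat.of (CohTop.H ((CohTop.pull (tB Y (op (ix (n + 1))))).obj F) q)) := by
  let k : Δᵒᵖ := op (SimplexCategory.mk n)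
  let C := Col Y ((FibDesc.toAug Δ).obj k)
  obtain ⟨h₁, h₂⟩ := exact_Col Y k
  haveI := h₁
  haveI := h₂
  let L := (C.mapHomologicalComplex (ComplexShape.up ℤ)).obj J
  haveI : CochainComplex.IsStrictlyGE L 0 := by
    rw [CochainComplex.isStrictlyGE_iff]
    exact fun i hi => C.map_isZero (CochainComplex.isZero_of_isStrictlyGE J 0 i hi)
  let ι : (CochainComplex.singleFunctor _ 0).obj ((CohTop.pull (tB Y ((FibDesc.toAug Δ).obj k))).obj F) ⟶ L :=
    (CochainComplex.singleFunctor _ 0).map ((etaIso Y k).hom.app F) ≫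
      (HomologicalComplex.singleMapHomologicalComplex C (ComplexShape.up ℤ) 0).inv.app ((θP Y).obj F) ≫
      (C.mapHomologicalComplex (ComplexShape.up ℤ)).map ι₀
  haveI : QuasiIso ((C.mapHomologicalComplex (ComplexShape.up ℤ)).map ι₀) := inferInstance
  haveI : QuasiIso ι := quasiIso_comp _ _
  exact nonempty_H_iso_of_flasque_res _ L
    (fun i => haveI := hJ i; flasque_Col (Y := Y) (J.X i) ((FibDesc.toAug Δ).obj k)) ι q

/-- The base column computes the cohomology of the sheaf. -/
theorem exists_resolution (hY : FibDesc.IsCohDescentTop Y) (F : CohTop.Ab (base Y)) :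
    ∃ (J : CochainComplex (P₀ Y) ℤ) (_ : J.IsStrictlyGE 0) (_ : ∀ q, Injective (J.X q))
      (ι₀ : (CochainComplex.singleFunctor (P₀ Y) 0).obj ((θP Y).obj F) ⟶ J), QuasiIso ι₀ ∧
      ∀ q : ℕ, Nonempty ((((GF Y 0).mapHomologicalComplex (ComplexShape.up ℤ)).obj J).homology (q : ℤ) ≅
        AddCommGrpCat.of (CohTop.H F q)) := by
  obtain ⟨_, _, _, _, _, _, hb⟩ := hY
  have hgood := DerivedFF.good_of_bijective_map (θAdj Y) hb
  let R := injectiveResolution F
  let I := R.cochainComplex
  haveI : CochainComplex.IsStrictlyGE (((θP Y).mapHomologicalComplex (ComplexShape.up ℤ)).obj I) 0 := by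
    rw [CochainComplex.isStrictlyGE_iff]
    exact fun i hi => (θP Y).map_isZero (CochainComplex.isZero_of_isStrictlyGE I 0 i hi)
  obtain ⟨J, a, ha, hJ, hJ'⟩ := CochainComplex.Plus.modelCategoryQuillen.exists_quasiIso_injective
    (((θP Y).mapHomologicalComplex (ComplexShape.up ℤ)).obj I) 0
  haveI := ha
  haveI := hJ'
  let ι₀ : (CochainComplex.singleFunctor (P₀ Y) 0).obj ((θP Y).obj F) ⟶ J :=
    (HomologicalComplex.singleMapHomologicalComplex (θP Y) (ComplexShape.up ℤ) 0).inv.app F ≫
      ((θP Y).mapHomologicalComplex (ComplexShape.up ℤ)).map R.ι' ≫ a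
  haveI : QuasiIso (((θP Y).mapHomologicalComplex (ComplexShape.up ℤ)).map R.ι') := inferInstance
  refine ⟨J, inferInstance, hJ, ι₀, quasiIso_comp _ _, fun q => ?_⟩
  haveI := hgood I 0 inferInstance (fun i => inferInstance) J 0 inferInstance hJ a ha
  let L := ((θS Y).mapHomologicalComplex (ComplexShape.up ℤ)).obj J
  haveI : CochainComplex.IsStrictlyGE L 0 := by
    rw [CochainComplex.isStrictlyGE_iff]
    exact fun i hi => (θS Y).map_isZero (CochainComplex.isZero_of_isStrictlyGE J 0 i hi)
  let ι : (CochainComplex.singleFunctor _ 0).obj F ⟶ L := R.ι' ≫ DerivedFF.adjunct (θAdj Y) a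
  haveI : QuasiIso ι := quasiIso_comp _ _
  exact nonempty_H_iso_of_flasque_res F L
    (fun i => haveI := hJ i; flasque_Col (Y := Y) (J.X i) (FibDesc.bot Δ)) ι q

/-- **The descent spectral sequence.** -/
theorem exists_descentSS (hY : FibDesc.IsCohDescentTop Y) (F : CohTop.Ab (base Y))
    (E₁ : ℤ → ℤ → Ab.{u}) (H : ℤ → Ab.{u})
    (he : ∀ n q : ℕ, Nonempty (AddCommGrpCat.of (CohTop.H ((CohTop.pull (tB Y (op (ix (n + 1))))).obj F) q) ≅
      E₁ n q))
    (hz : ∀ p q : ℤ, ¬ (0 ≤ p ∧ 0 ≤ q) → IsZero (E₁ p q))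
    (hH : ∀ q : ℕ, Nonempty (AddCommGrpCat.of (CohTop.H F q) ≅ H q))
    (hHz : ∀ n : ℤ, n < 0 → IsZero (H n)) :
    ∃ (E : CohomologicalSpectralSequence Ab.{u} 1) (a : SpSeq.Abutment E H),
      (∀ n, a.IsFinite n) ∧ SpSeq.IsBounded E ∧
      ∀ p q : ℤ, Nonempty ((E.page 1 le_rfl).X (p, q) ≅ E₁ p q) := by
  obtain ⟨J, hge, hJ, ι₀, hι, hcol⟩ := exists_resolution Y hY F
  haveI := hge
  haveI := hι
  have hp : ∀ p, p < -1 → IsZero ((dbl Y J).X p) := fun p hp =>
    (colsC Y J).isZero_extend_X _ p fun n hn => by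
      change (-1 : ℤ) + n = p at hn
      omega
  have hq : ∀ p q, q < 0 → IsZero (((dbl Y J).X p).X q) := by
    intro p q hq
    rcases Int.lt_or_le p (-1) with h | h
    · exact (HomologicalComplex.eval _ _ q).map_isZero (hp p h)
    · refine IsZero.of_iso ((GF Y _).map_isZero (CochainComplex.isZero_of_isStrictlyGE J 0 q hq))
        ((HomologicalComplex.eval _ _ q).mapIso (colIso Y J (p + 1).toNat p (by omega)))
  have inj : ∀ (m : ℕ) (p : ℤ) (hm : (-1 : ℤ) + m = p) (q : ℤ),
      Function.Bijective ((colIso Y J m p hm).hom.f q).hom := fun m p hm q =>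
    ConcreteCategory.bijective_of_isIso ((colIso Y J m p hm).hom.f q)
  refine DoubleSS.exists_spectralSequence (dbl Y J) hp hq ?_ E₁ H ?_ hz ?_
  · intro p q x hx
    rcases Int.lt_or_le p (-1) with h | h
    · exact ⟨0, (AddCommGrpCat.subsingleton_of_isZero
        ((HomologicalComplex.eval _ _ q).map_isZero (hp p h))).elim _ _⟩
    obtain ⟨m, rfl⟩ : ∃ m : ℕ, p = -1 + m := ⟨(p + 1).toNat, by omega⟩
    have hx' := d_f Y J m _ _ rfl (show (-1 : ℤ) + (m + 1 : ℕ) = -1 + m + 1 by push_cast; ring) q x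
    rw [hx, map_zero] at hx'
    rcases m with _ | m
    · refine ⟨0, ?_⟩
      rw [map_zero]
      exact ((inj 0 _ rfl q).1 ((eq_zero_of_rowNat (J.X q) ⊤ _ hx'.symm).trans (map_zero _).symm)).symm
    · haveI := hJ q
      obtain ⟨c, hc⟩ := exists_rowNat_eq (J.X q) ⊤ m _ hx'.symm
      have hm : (-1 : ℤ) + m = -1 + (m + 1 : ℕ) - 1 := by push_cast; ring
      obtain ⟨y, hy⟩ := (inj m _ hm q).2 c
      refine ⟨y, (inj (m + 1) _ rfl q).1 ?_⟩
      exact (d_f Y J m _ _ hm rfl q y).trans ((congrArg _ hy).trans hc)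
  · intro p q h1 h2
    obtain ⟨n, rfl⟩ := Int.eq_ofNat_of_zero_le h1
    obtain ⟨q, rfl⟩ := Int.eq_ofNat_of_zero_le h2
    obtain ⟨e⟩ := nonempty_level_homology Y J F hJ ι₀ n q
    exact ⟨HomologicalComplex.homologyMapIso (colIso Y J (n + 1) n (by push_cast; ring)) (q : ℤ) ≪≫ e ≪≫
      (he n q).some⟩
  · intro n
    rcases Int.lt_or_le n 0 with hn | hn
    · exact ⟨IsZero.iso (HomologicalComplex.ExactAt.isZero_homology
        (ShortComplex.exact_of_isZero_X₂ _ (hq _ n hn))) (hHz n hn)⟩
    · obtain ⟨q, rfl⟩ := Int.eq_ofNat_of_zero_le hn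
      exact ⟨HomologicalComplex.homologyMapIso (colIso Y J 0 (-1) (by simp)) (q : ℤ) ≪≫ (hcol q).some ≪≫
        (hH q).some⟩

end Groth.Agent.H15Site.DescSimp
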