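import Groth.Agent.H15Site.DescSimp.Criterion
import Groth.Agent.H15Site.Etale.GermFam
import Groth.Agent.H15Site.PBC.Stalk

/-!
# Levels of inverse images as families of germs; the unit on stalks
-/

set_option autoImplicit false
set_option linter.style.haveILetI false
set_option linter.unusedSectionVars false
set_option backward.isDefEq.respectTransparency false
set_option backward.isDefEq.respectTransparency.types false

universe u

open CategoryTheory CategoryTheory.Limits Opposite Pseudofunctor Pseudofunctor.CoGrothendieck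
open TopologicalSpace Groth.Agent.H15Site.OpensFib Groth.Agent.H15Site.DescTop

noncomputable section

namespace Groth.Agent.H15Site.DescSimp

attribute [local instance 10000] SiteInst.hasSheafifySite SiteInst.hasWeakSheafifySite
  SiteInst.hasExtSite SiteInst.enoughInjSite

section Phi

variable {S X X' : TopCat.{u}} (F : CohTop.Ab S) (h : X' ⟶ X) (p : X ⟶ S) (p' : X' ⟶ S) (hh : h ≫ p = p')

include hh in
lemma map_le (V : Opens S) : (Opens.map p').obj V ≤ (Opens.map h).obj ((Opens.map p).obj V) := by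
  subst hh
  exact le_rfl

/-- `φ` on basic sections. -/
lemma φ_un {V : Opens S} (x : F.obj.obj (op V)) :
    (PullCoh.φ F h p p' hh).hom.app (op ((Opens.map p).obj V)) ((PBC.un F p).hom.app (op V) x) =
      (PullCoh.G F p').obj.map (eqToHom (show (Opens.map h).obj ((Opens.map p).obj V) = (Opens.map p').obj V by
        subst hh; rfl)).op.unop.op ((PBC.un F p').hom.app (op V) x) := by
  subst hh
  have := ((PullCoh.adjP p).homEquiv F ((CohTop.push h).obj (PullCoh.G F (h ≫ p)))).apply_symm_apply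
    ((PullCoh.adjP (h ≫ p)).unit.app F ≫ eqToHom rfl)
  rw [Adjunction.homEquiv_unit] at this
  refine (ConcreteCategory.congr_hom (congrArg (fun ψ => ψ.hom.app (op V)) this) x).trans ?_
  simp

/-- Germs of `φ`. -/
lemma secFam_φ {W : Opens X} (u : (PullCoh.G F p).obj.obj (op W)) (z : X') (hz : h z ∈ W) :
    Etale.secFam p' F ((Opens.map h).obj W) ((PullCoh.φ F h p p' hh).hom.app (op W) u) z hz =
      (eqToHom (congrArg (CohTop.stalk F) (show p (h z) = p' z by subst hh; rfl))).hom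
        (Etale.secFam p F W u (h z) hz) := by
  obtain ⟨V, W', hzW', v, hv⟩ := Etale.isFam_secFam p F W u (h z) hz
  obtain ⟨hV, e⟩ := hv (h z) hz hzW'
  have hu : PBC.gm (PullCoh.G F p) (h z) hz u =
      PBC.gm (PullCoh.G F p) (U := (Opens.map p).obj V) (h z) hV ((PBC.un F p).hom.app (op V) v) :=
    ((Etale.secFam_eq_iff p F W u (h z) hz _).1 e.symm).trans (PBC.cmap_gm F p (h z) hV v)
  obtain ⟨O, hO, i, i', eO⟩ := TopCat.Presheaf.germ_eq (PullCoh.G F p).obj (h z) hz hV _ _ hu
  subst hh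
  rw [← e, eqToHom_refl]
  refine (Etale.secFam_eq_iff (h ≫ p) F _ _ z hz _).2 ?_
  refine Eq.trans ?_ (PBC.cmap_gm F (h ≫ p) z hV v).symm
  let φ₀ := PullCoh.φ F h p (h ≫ p) rfl
  have n1 := ConcreteCategory.congr_hom (φ₀.hom.naturality i.op) u
  have n2 := ConcreteCategory.congr_hom (φ₀.hom.naturality i'.op) ((PBC.un F p).hom.app (op V) v)
  have e2 : (PullCoh.G F (h ≫ p)).obj.map ((Opens.map h).map i).op (φ₀.hom.app (op W) u) =
      (PullCoh.G F (h ≫ p)).obj.map ((Opens.map h).map i').op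
        (φ₀.hom.app (op ((Opens.map p).obj V)) ((PBC.un F p).hom.app (op V) v)) :=
    n1.symm.trans ((congrArg (φ₀.hom.app (op O)) eO).trans n2)
  have hO' : z ∈ (Opens.map h).obj O := hO
  refine (TopCat.Presheaf.germ_res_apply (PullCoh.G F (h ≫ p)).obj ((Opens.map h).map i) z hO' _).symm.trans
    ((congrArg _ e2).trans ?_)
  refine (TopCat.Presheaf.germ_res_apply (PullCoh.G F (h ≫ p)).obj ((Opens.map h).map i') z hO' _).trans ?_
  refine (congrArg (PBC.gm (PullCoh.G F (h ≫ p)) (U := (Opens.map h).obj ((Opens.map p).obj V)) z hV)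
    (φ_un F h p (h ≫ p) rfl v)).trans ?_
  exact TopCat.Presheaf.germ_res_apply (PullCoh.G F (h ≫ p)).obj _ z hV _

lemma eqToHom_gm {S : TopCat.{u}} (F : CohTop.Ab S) {x y : S} (e : x = y) {V : Opens S} (hx : x ∈ V)
    (v : F.obj.obj (op V)) :
    (eqToHom (congrArg (CohTop.stalk F) e)).hom (PBC.gm F x hx v) = PBC.gm F y (e ▸ hx) v := by
  subst e
  rfl

end Phi

variable {Y : K Δ ⥤ TopCat.{u}} (F : CohTop.Ab (base Y))

/-- The comparison on basic sections. -/
lemma eta_un (k : K Δ) {V : Opens (base Y)} (x : F.obj.obj (op V)) :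
    ((eta Y k).app F).hom.app (op ((Opens.map (tB Y k)).obj V)) ((PBC.un F (tB Y k)).hom.app (op V) x) =
      ((toLevel Y k).app F).hom.app (op V) x := by
  have h := ((TopCat.Sheaf.pullbackPushforwardAdjunction Ab.{u} (tB Y k)).homEquiv F _).apply_symm_apply
    ((toLevel Y k).app F)
  rw [Adjunction.homEquiv_unit] at h
  exact ConcreteCategory.congr_hom (congrArg (fun ψ => ψ.hom.app (op V)) h) x

/-- The comparisons commute with the structure maps. -/
theorem eta_str {k l : K Δ} (b : k ⟶ l) (hh : Y.map b ≫ tB Y l = tB Y k) :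
    (eta Y l).app F ≫ (str b).app ((OpensRestrict.ranS Y).obj ((θP Y).obj F)) =
      PullCoh.φ F (Y.map b) (tB Y l) (tB Y k) hh ≫ (CohTop.push (Y.map b)).map ((eta Y k).app F) := by
  apply ((TopCat.Sheaf.pullbackPushforwardAdjunction Ab.{u} (tB Y l)).homEquiv F _).injective
  rw [Adjunction.homEquiv_unit, Adjunction.homEquiv_unit]
  refine ObjectProperty.hom_ext _ (NatTrans.ext (funext fun V => ?_))
  ext x
  obtain ⟨V⟩ := V
  let P := (θP Y).obj F
  let T := (OpensRestrict.ranS Y).obj P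
  show ((str b).app T).hom.app _ (((eta Y l).app F).hom.app (op ((Opens.map (tB Y l)).obj V))
      ((PBC.un F (tB Y l)).hom.app (op V) x)) =
    ((eta Y k).app F).hom.app (op ((Opens.map (Y.map b)).obj ((Opens.map (tB Y l)).obj V)))
      ((PullCoh.φ F (Y.map b) (tB Y l) (tB Y k) hh).hom.app (op ((Opens.map (tB Y l)).obj V))
        ((PBC.un F (tB Y l)).hom.app (op V) x))
  rw [eta_un, φ_un]
  refine Eq.trans ?_ (ConcreteCategory.congr_hom (((eta Y k).app F).hom.naturality _)
    ((PBC.un F (tB Y k)).hom.app (op V) x)).symm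
  refine Eq.trans ?_ (congrArg _ (eta_un F k x)).symm
  show T.obj.map _ (T.obj.map _ _) = T.obj.map _ (T.obj.map _ _)
  refine (ConcreteCategory.congr_hom (T.obj.map_comp _ _).symm _).trans
    (Eq.trans ?_ (ConcreteCategory.congr_hom (T.obj.map_comp _ _) _))
  refine congrArg (fun g => (T.obj.map g).hom _) (Quiver.Hom.unop_inj (hom_ext ?_))
  exact bot_ext _ _

variable (Y)
variable (s : base Y)

/-- The fibre at a level. -/
abbrev fib (k : K Δ) : TopCat.{u} := TopCat.of ((tB Y k) ⁻¹' {s})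

/-- Its inclusion. -/
abbrev inc (k : K Δ) : fib Y s k ⟶ Y.obj k := TopCat.ofHom ⟨Subtype.val, continuous_subtype_val⟩

lemma inc_tB (k : K Δ) (z : fib Y s k) : tB Y k (inc Y s k z) = s := z.2

/-- The induced maps of fibres. -/
def fmap {k l : K Δ} (b : k ⟶ l) : fib Y s k ⟶ fib Y s l :=
  TopCat.ofHom ⟨fun z => ⟨Y.map b z.1, (tB_apply Y b z.1).trans z.2⟩,
    ((Y.map b).hom.continuous.comp continuous_subtype_val).subtype_mk _⟩

variable {Y}

/-- The values on the fibre of a section over a neighbourhood. -/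
def fibEval {k : K Δ} {V : Opens (base Y)} (hV : s ∈ V)
    (u : ((CohTop.pull (tB Y k)).obj F).obj.obj (op ((Opens.map (tB Y k)).obj V))) (z : fib Y s k) :
    CohTop.stalk F s :=
  (eqToHom (congrArg (CohTop.stalk F) z.2)).hom
    (Etale.secFam (tB Y k) F _ u z.1 (show tB Y k z.1 ∈ V by rw [z.2]; exact hV))

theorem eq_zero_of_fibEval {k : K Δ} (hcl : IsClosedMap (tB Y k)) {V : Opens (base Y)} (hV : s ∈ V)
    (u : ((CohTop.pull (tB Y k)).obj F).obj.obj (op ((Opens.map (tB Y k)).obj V)))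
    (h : ∀ z, fibEval F s hV u z = 0) :
    ∃ (W : Opens (base Y)) (i : W ≤ V), s ∈ W ∧
      ((CohTop.pull (tB Y k)).obj F).obj.map ((Opens.map (tB Y k)).map (homOfLE i)).op u = 0 := by
  let G := (CohTop.pull (tB Y k)).obj F
  let E := PBC.eqLocus G u (0 : G.obj.obj (op ((Opens.map (tB Y k)).obj V)))
  have hfib : ∀ z : Y.obj k, tB Y k z = s → z ∈ E := fun z hz => by
    have hzV : tB Y k z ∈ V := by rw [hz]; exact hV
    refine ⟨hzV, hzV, ?_⟩
    have h0 := h ⟨z, hz⟩
    have h1 : Etale.secFam (tB Y k) F _ u z hzV = 0 := by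
      refine (ConcreteCategory.bijective_of_isIso (eqToHom (congrArg (CohTop.stalk F) hz))).1 ?_
      exact h0.trans (map_zero _).symm
    exact ((Etale.secFam_eq_iff (tB Y k) F _ u z hzV 0).1 h1).trans ((map_zero _).trans (map_zero _).symm)
  refine ⟨V ⊓ ⟨(tB Y k '' (E : Set _)ᶜ)ᶜ, (hcl _ E.isOpen.isClosed_compl).isOpen_compl⟩, inf_le_left,
    ⟨hV, ?_⟩, ?_⟩
  · rintro ⟨z, hz, hzs⟩
    exact hz (hfib z hzs)
  · refine TopCat.Presheaf.section_ext (G : TopCat.Sheaf AddCommGrpCat.{u} (Y.obj k)) _ _ _ fun z hz => ?_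
    refine (PBC.gm_res G ((Opens.map (tB Y k)).monotone inf_le_left) z hz u).trans ?_
    obtain ⟨_, _, e⟩ : z ∈ E := by
      by_contra hc
      exact hz.2 ⟨z, hc, rfl⟩
    exact e.trans ((map_zero _).trans (map_zero _).symm)

/-- The values on fibres commute with the structure maps. -/
lemma fibEval_φ {k l : K Δ} (b : k ⟶ l) (hh : Y.map b ≫ tB Y l = tB Y k) {V : Opens (base Y)} (hV : s ∈ V)
    (hle : (Opens.map (tB Y k)).obj V ≤ (Opens.map (Y.map b)).obj ((Opens.map (tB Y l)).obj V))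
    (u : ((CohTop.pull (tB Y l)).obj F).obj.obj (op ((Opens.map (tB Y l)).obj V))) (z : fib Y s k) :
    fibEval F s hV (((CohTop.pull (tB Y k)).obj F).obj.map (homOfLE hle).op
      ((PullCoh.φ F (Y.map b) (tB Y l) (tB Y k) hh).hom.app _ u)) z = fibEval F s hV u (fmap Y s b z) := by
  have hzl : Y.map b z.1 ∈ (Opens.map (tB Y l)).obj V := by
    show tB Y l (Y.map b z.1) ∈ V
    rw [tB_apply, z.2]
    exact hV
  have hzk : z.1 ∈ (Opens.map (tB Y k)).obj V := by
    show tB Y k z.1 ∈ V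
    rw [z.2]
    exact hV
  let c := Etale.secFam (tB Y l) F _ u (Y.map b z.1) hzl
  have e1 := secFam_φ F (Y.map b) (tB Y l) (tB Y k) hh u z.1 hzl
  have e2 : ∀ v : ((CohTop.pull (tB Y k)).obj F).obj.obj (op ((Opens.map (Y.map b)).obj ((Opens.map (tB Y l)).obj V))),
      Etale.secFam (tB Y k) F _ (((CohTop.pull (tB Y k)).obj F).obj.map (homOfLE hle).op v) z.1 hzk =
        Etale.secFam (tB Y k) F _ v z.1 hzl := fun v =>
    (Etale.secFam_eq_iff _ F _ _ z.1 hzk _).2
      ((PBC.gm_res _ hle z.1 hzk v).trans ((Etale.secFam_eq_iff _ F _ v z.1 hzl _).1 rfl))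
  show (eqToHom (congrArg (CohTop.stalk F) z.2)).hom (Etale.secFam _ F _ _ z.1 hzk) = _
  rw [e2, e1]
  refine (ConcreteCategory.congr_hom (eqToHom_trans _ _) c).trans ?_
  rfl

end Groth.Agent.H15Site.DescSimp
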