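import Groth.Agent.H15Site.DescSimp.FibreLift

/-!
# Contractible fibres give exact stalk columns
-/

set_option autoImplicit false
set_option linter.style.haveILetI false
set_option linter.unusedSectionVars false
set_option backward.isDefEq.respectTransparency false
set_option backward.isDefEq.respectTransparency.types false

universe u

open CategoryTheory CategoryTheory.Limits Opposite Pseudofunctor Pseudofunctor.CoGrothendieck
open TopologicalSpace Groth.Agent.H15Site.OpensFib Groth.Agent.H15Site.DescTop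

noncomputable section

namespace Groth.Agent.H15Site.DescSimp

attribute [local instance 10000] SiteInst.hasSheafifySite SiteInst.hasWeakSheafifySite
  SiteInst.hasExtSite SiteInst.enoughInjSite

attribute [local instance] HasDerivedCategory.standard

instance isIso_eta_lv (Y : K Δ ⥤ TopCat.{u}) (m : ℕ) : IsIso (eta Y (lv m)) :=
  isIso_eta Y (op (SimplexCategory.mk m))

instance preservesFiniteColimits_Col_lv (Y : K Δ ⥤ TopCat.{u}) (m : ℕ) :
    PreservesFiniteColimits (Col Y (lv m)) :=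
  (exact_Col Y (op (SimplexCategory.mk m))).2

instance (priority := 10000) additive_stk {S : TopCat.{u}} (x : S) : (stk x).Additive :=
  haveI := preservesFiniteLimits_stk x
  Functor.additive_of_preserves_binary_products _

variable (Y : K Δ ⥤ TopCat.{u}) (s : base Y)

/-- Cohomology of the fibres as a cosimplicial group. -/
def FΦ (F : CohTop.Ab (base Y)) (q : ℕ) : WithInitial Δ ⥤ Ab.{u} where
  obj m := (PullCoh.A F q).obj (op (Over.mk (pF Y s (op m))))
  map {m m'} g := (PullCoh.A F q).map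
    (Over.homMk (U := Over.mk (pF Y s (op m'))) (V := Over.mk (pF Y s (op m))) (fmap Y s g.op)
      (fmap_pF Y s g.op)).op
  map_id m := by
    refine (congrArg (PullCoh.A F q).map ?_).trans ((PullCoh.A F q).map_id _)
    refine Quiver.Hom.unop_inj ?_
    ext z
    exact Subtype.ext (ConcreteCategory.congr_hom (Y.map_id (op m)) z.1)
  map_comp {m m' m''} g g' := by
    refine (congrArg (PullCoh.A F q).map ?_).trans ((PullCoh.A F q).map_comp _ _)
    refine Quiver.Hom.unop_inj ?_
    ext z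
    exact Subtype.ext (ConcreteCategory.congr_hom (Y.map_comp g'.op g.op) z.1)

/-- Extra degeneracies on the fibres. -/
structure Contraction where
  hh : ∀ m : ℕ, fib Y s (op (ix m)) ⟶ fib Y s (op (ix (m + 1)))
  hh_zero : ∀ (m : ℕ) z, fmap Y s (face m 0).op (hh m z) = z
  hh_succ : ∀ (m : ℕ) (i : Fin (m + 1)) z,
    fmap Y s (face (m + 1) i.succ).op (hh (m + 1) z) = hh m (fmap Y s (face m i).op z)

variable {Y s}

lemma hh_pF (c : Contraction Y s) (m : ℕ) : c.hh m ≫ pF Y s (op (ix (m + 1))) = pF Y s (op (ix m)) := by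
  ext z
  exact (inc_tB Y s _ _).trans (inc_tB Y s _ z).symm

/-- The contracting maps in cohomology. -/
def hΦ (c : Contraction Y s) (F : CohTop.Ab (base Y)) (q m : ℕ) :
    (FΦ Y s F q).obj (ix (m + 1)) ⟶ (FΦ Y s F q).obj (ix m) :=
  (PullCoh.A F q).map (Over.homMk (U := Over.mk (pF Y s (op (ix m))))
    (V := Over.mk (pF Y s (op (ix (m + 1))))) (c.hh m) (hh_pF c m)).op

lemma hΦ_zero (c : Contraction Y s) (F : CohTop.Ab (base Y)) (q m : ℕ) :
    (FΦ Y s F q).map (face m 0) ≫ hΦ c F q m = 𝟙 _ := by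
  refine ((PullCoh.A F q).map_comp _ _).symm.trans ?_
  refine (congrArg (PullCoh.A F q).map ?_).trans ((PullCoh.A F q).map_id _)
  refine Quiver.Hom.unop_inj ?_
  ext z
  exact c.hh_zero m z

lemma hΦ_succ (c : Contraction Y s) (F : CohTop.Ab (base Y)) (q m : ℕ) (i : Fin (m + 1)) :
    (FΦ Y s F q).map (face (m + 1) i.succ) ≫ hΦ c F q (m + 1) =
      hΦ c F q m ≫ (FΦ Y s F q).map (face m i) := by
  refine ((PullCoh.A F q).map_comp _ _).symm.trans (Eq.trans ?_ ((PullCoh.A F q).map_comp _ _))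
  refine congrArg (PullCoh.A F q).map (Quiver.Hom.unop_inj ?_)
  ext z
  exact c.hh_succ m i z

lemma hΦ_altD (c : Contraction Y s) (F : CohTop.Ab (base Y)) (q m : ℕ) :
    altD (FΦ Y s F q) (m + 1) ≫ hΦ c F q (m + 1) + hΦ c F q m ≫ altD (FΦ Y s F q) m = 𝟙 _ := by
  rw [altD, altD, Preadditive.sum_comp, Preadditive.comp_sum, Fin.sum_univ_succ, add_assoc,
    ← Finset.sum_add_distrib]
  simp only [Preadditive.neg_comp, Preadditive.zsmul_comp, Preadditive.comp_zsmul, Fin.val_zero, pow_zero, one_smul,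
    hΦ_zero, hΦ_succ, Fin.val_succ, pow_succ, mul_neg, mul_one, neg_smul, neg_add_cancel,
    Finset.sum_const_zero, add_zero]

/-- A sheaf on a one-point space is soft. -/
theorem soft_of_subsingleton {Z : TopCat.{u}} [Subsingleton Z] (G : CohTop.Ab Z) : PBC.Soft G := by
  intro A hA b hb
  haveI : Finite Z := Finite.of_subsingleton
  obtain ⟨U, hU, t, ht⟩ := PBC.exists_extension G (Set.toFinite A).isCompact
    (fun x _ y _ h => absurd (Subsingleton.elim x y) h) b hb
  by_cases hne : Nonempty A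
  · obtain ⟨a⟩ := hne
    have hle : (⊤ : Opens Z) ≤ U := fun y _ => (Subsingleton.elim a.1 y) ▸ hU a.2
    exact ⟨G.obj.map (homOfLE hle).op t, fun x => (PBC.gm_res G hle x.1 _ t).trans (ht x)⟩
  · exact ⟨0, fun x => absurd ⟨x⟩ hne⟩

lemma subsingleton_fib_bot : Subsingleton (fib Y s (op (ix 0))) :=
  ⟨fun a b => Subtype.ext (by
    have h : ∀ z : fib Y s (op (ix 0)), z.1 = s := fun z => by
      have e : tB Y (FibDesc.bot Δ) = 𝟙 (base Y) := (congrArg Y.map (bot_ext _ _)).trans (Y.map_id _)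
      exact (ConcreteCategory.congr_hom e z.1).symm.trans z.2
    exact (h a).trans (h b).symm)⟩

theorem subsingleton_FΦ_bot (F : CohTop.Ab (base Y)) (q : ℕ) :
    Subsingleton ((FΦ Y s F (q + 1)).obj (ix 0)) := by
  obtain ⟨e⟩ := PullCoh.nonempty_A_iso F (q + 1) (Over.mk (pF Y s (op (ix 0))))
  haveI := subsingleton_fib_bot (Y := Y) (s := s)
  haveI : Finite (fib Y s (op (ix 0))) := Finite.of_subsingleton
  haveI : CompactSpace (fib Y s (op (ix 0))) := Finite.compactSpace
  haveI : T2Space (fib Y s (op (ix 0))) := ⟨fun x y h => absurd (Subsingleton.elim x y) h⟩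
  have h0 : Subsingleton (CohTop.H (PullCoh.G F (pF Y s (op (ix 0)))) (q + 1)) := by
    haveI := PBC.subsingleton_H_of_soft (soft_of_subsingleton (PullCoh.G F (pF Y s (op (ix 0))))) q
    exact (H10Coh.topEquiv _ (q + 1)).toEquiv.subsingleton
  exact @Equiv.subsingleton _ _ e.addCommGroupIsoToAddEquiv.toEquiv h0

variable (Y s)

/-- A face between stalk rows. -/
def stkFace {m m' : WithInitial Δ} (g : m ⟶ m') :
    Col Y (op m) ⋙ CohTop.push (tB Y (op m)) ⋙ stk s ⟶ Col Y (op m') ⋙ CohTop.push (tB Y (op m')) ⋙ stk s where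
  app M := (stk s).map ((rowS Y ((OpensRestrict.ranS Y).obj M)).map g)
  naturality M M' f := by
    refine ((stk s).map_comp _ _).symm.trans (Eq.trans ?_ ((stk s).map_comp _ _))
    exact congrArg _ (rowS_map_nat ((OpensRestrict.ranS Y).map f) g)

/-- The stalk is the sections on the fibre. -/
abbrev sR (k : K Δ) (M : P₀ Y) :
    (stk s).obj ((CohTop.push (tB Y k)).obj ((Col Y k).obj M)) ⟶ (PullCoh.Γ (fib Y s k)).obj ((Fk Y s k).obj M) :=
  PBC.stkRest (tB Y k) (inc Y s k) s (inc_tB Y s k) ((Col Y k).obj M)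

theorem stkFace_sR {m m' : WithInitial Δ} (g : m ⟶ m') (M : P₀ Y) :
    (stkFace Y s g).app M ≫ sR Y s (op m') M =
      sR Y s (op m) M ≫ (PullCoh.Γ (fib Y s (op m))).map ((Lstr Y s g.op).app M) := by
  refine TopCat.Presheaf.stalk_hom_ext _ fun V hV => ?_
  ext x
  let l : K Δ := op m
  let k : K Δ := op m'
  let T := (OpensRestrict.ranS Y).obj M
  show (sR Y s k M).hom (((stk s).map ((rowS Y T).map g)).hom
      (TopCat.Presheaf.germ ((CohTop.push (tB Y l)).obj ((Col Y l).obj M)).obj V s hV x)) =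
    ((Lstr Y s g.op).app M).hom.app (op ⊤) ((sR Y s l M).hom
      (TopCat.Presheaf.germ ((CohTop.push (tB Y l)).obj ((Col Y l).obj M)).obj V s hV x))
  refine (congrArg (sR Y s k M).hom
    (TopCat.Presheaf.stalkFunctor_map_germ_apply V s hV ((rowS Y T).map g).hom x)).trans ?_
  refine (ConcreteCategory.congr_hom (PBC.stkRest_germ (tB Y k) (inc Y s k) s (inc_tB Y s k) _ hV) _).trans ?_
  refine Eq.trans ?_ (congrArg (((Lstr Y s g.op).app M).hom.app (op ⊤))
    (ConcreteCategory.congr_hom (PBC.stkRest_germ (tB Y l) (inc Y s l) s (inc_tB Y s l) _ hV) x)).symm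
  let W : Opens (Y.obj l) := (Opens.map (tB Y l)).obj V
  have htop : (⊤ : Opens (fib Y s l)) ≤ (Opens.map (inc Y s l)).obj W := fun z _ => by
    show tB Y l z.1 ∈ V
    rw [z.2]
    exact hV
  refine Eq.trans ?_ (ConcreteCategory.congr_hom (((Lstr Y s g.op).app M).hom.naturality (homOfLE htop).op)
    ((unF Y s l M).hom.app (op W) x)).symm
  have h := ConcreteCategory.congr_hom (congrArg (fun φ => φ.hom.app (op W)) (unF_Lstr Y s g.op M)) x
  refine Eq.trans ?_ (congrArg _ h).symm
  have hle : (Opens.map (tB Y k)).obj V ≤ (Opens.map (Y.map g.op)).obj W := fun y hy => by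
    show tB Y l (Y.map g.op y) ∈ V
    rw [tB_apply]
    exact hy
  have e : ((rowS Y T).map g).hom.app (op V) x =
      ((Col Y k).obj M).obj.map (homOfLE hle).op (((str g.op).app T).hom.app (op W) x) := by
    refine Eq.trans ?_ (ConcreteCategory.congr_hom (T.obj.map_comp _ _) x)
    exact congrArg (fun a => (T.obj.map a).hom x) (Quiver.Hom.unop_inj (hom_ext (Category.id_comp _).symm))
  refine (congrArg (PBC.rest (inc Y s k) ((Col Y k).obj M) _ _).hom e).trans ?_
  refine (congrArg (((Fk Y s k).obj M).obj.map _) (ConcreteCategory.congr_hom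
    ((unF Y s k M).hom.naturality (homOfLE hle).op) _)).trans ?_
  exact (ConcreteCategory.congr_hom (((Fk Y s k).obj M).obj.map_comp _ _) _).symm

variable (F : CohTop.Ab (base Y)) (J : CochainComplex (P₀ Y) ℤ)
  (ι₀ : (CochainComplex.singleFunctor (P₀ Y) 0).obj ((θP Y).obj F) ⟶ J) [QuasiIso ι₀]

/-- Stalk complexes to fibre complexes. -/
def restCx (m : ℕ) :
    sC Y J s m ⟶ ΓCx (Lcx Y s J (op (ix m))) :=
  { f := fun q => sR Y s (op (ix m)) (J.X q)
    comm' := fun a b _ => (PBC.stkRest_nat (tB Y (op (ix m))) (inc Y s (op (ix m))) s (inc_tB Y s (op (ix m)))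
      ((Col Y (op (ix m))).map (J.d a b))).symm }

/-- The comparison of stalk cohomology with fibre cohomology. -/
def xi (m q : ℕ) : (sC Y J s (m + 1)).homology (q : ℤ) ⟶ (FΦ Y s F q).obj (ix (m + 1)) :=
  HomologicalComplex.homologyMap (restCx Y s J (m + 1) ≫
    ((PullCoh.Γ (fib Y s (lv m))).mapHomologicalComplex (ComplexShape.up ℤ)).map (lam Y s F J ι₀ (lv m))) (q : ℤ)

theorem xi_face (m q : ℕ) (i : Fin (m + 2)) :
    HomologicalComplex.homologyMap
        ((NatTrans.mapHomologicalComplex (stkFace Y s (face (m + 1) i)) (ComplexShape.up ℤ)).app J) (q : ℤ) ≫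
        xi Y s F J ι₀ (m + 1) q =
      xi Y s F J ι₀ m q ≫ (FΦ Y s F q).map (face (m + 1) i) := by
  let b : lv (m + 1) ⟶ lv m := (face (m + 1) i).op
  obtain ⟨H⟩ := homotopy_lam Y s F J ι₀ b
  let Γl := (PullCoh.Γ (fib Y s (lv m))).mapHomologicalComplex (ComplexShape.up ℤ)
  let Γk := (PullCoh.Γ (fib Y s (lv (m + 1)))).mapHomologicalComplex (ComplexShape.up ℤ)
  have hA : (NatTrans.mapHomologicalComplex (stkFace Y s (face (m + 1) i)) (ComplexShape.up ℤ)).app J ≫
      restCx Y s J (m + 2) = restCx Y s J (m + 1) ≫ Γl.map (LstrCx Y s J b) :=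
    HomologicalComplex.hom_ext _ _ fun p => stkFace_sR Y s (face (m + 1) i) (J.X p)
  show _ ≫ HomologicalComplex.homologyMap _ _ = HomologicalComplex.homologyMap _ _ ≫
    HomologicalComplex.homologyMap (Γl.map (PullCoh.lift F (fmap Y s b) (pF Y s (lv m)) (pF Y s (lv (m + 1)))
      (fmap_pF Y s b))) (q : ℤ)
  rw [← HomologicalComplex.homologyMap_comp, ← HomologicalComplex.homologyMap_comp, Category.assoc]
  refine Eq.trans ?_ ((((PullCoh.Γ (fib Y s (lv m))).mapHomotopy H).compLeft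
    (restCx Y s J (m + 1))).homologyMap_eq (q : ℤ) |>.trans ?_)
  · refine congrArg (fun t => HomologicalComplex.homologyMap t (q : ℤ)) ?_
    refine (Category.assoc _ _ _).symm.trans ((congrArg (· ≫ Γk.map (lam Y s F J ι₀ (lv (m + 1)))) hA).trans ?_)
    refine (Category.assoc _ _ _).trans ?_
    refine congrArg (restCx Y s J (m + 1) ≫ ·) ?_
    rfl
  · refine congrArg (fun t => HomologicalComplex.homologyMap t (q : ℤ)) ?_
    exact congrArg (restCx Y s J (m + 1) ≫ ·) (Γl.map_comp _ _)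

theorem xi_altD (m q : ℕ) :
    Cascade.Hd (sC Y J s) (sCd Y J s) (m + 1) (q : ℤ) ≫ xi Y s F J ι₀ (m + 1) q =
      xi Y s F J ι₀ m q ≫ altD (FΦ Y s F q) (m + 1) := by
  have e : sCd Y J s (m + 1) = ∑ i : Fin (m + 2), ((-1 : ℤ) ^ (i : ℕ)) •
      (NatTrans.mapHomologicalComplex (stkFace Y s (face (m + 1) i)) (ComplexShape.up ℤ)).app J := by
    ext p : 1
    refine Eq.trans ?_ (map_sum (HomologicalComplex.Hom.fAddMonoidHom (C₁ := sC Y J s (m + 1)) (C₂ := sC Y J s (m + 2)) p) _ _).symm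
    show (stk s).map (rowD ((OpensRestrict.ranS Y).obj (J.X p)) (m + 1)) = _
    rw [rowD, Functor.map_sum]
    refine Finset.sum_congr rfl fun i _ => ?_
    rw [Functor.map_zsmul]
    rfl
  show HomologicalComplex.homologyMap (sCd Y J s (m + 1)) (q : ℤ) ≫ _ = _
  rw [e]
  show (HomologicalComplex.homologyFunctor Ab.{u} (ComplexShape.up ℤ) (q : ℤ)).map _ ≫ _ = _
  rw [Functor.map_sum, altD, Preadditive.sum_comp, Preadditive.comp_sum]
  refine Finset.sum_congr rfl fun i _ => ?_
  rw [Functor.map_zsmul, Preadditive.zsmul_comp, Preadditive.comp_zsmul]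
  exact congrArg _ (xi_face Y s F J ι₀ m q i)

include ι₀ in
/-- **Contractible compact fibres.** -/
theorem col_exact_of_contraction [J.IsStrictlyGE 0] (hJ : ∀ q, Injective (J.X q))
    (c : Contraction Y s) (hcl : ∀ m, IsClosedMap (tB Y (lv m)))
    (hcpt : ∀ m, CompactSpace (fib Y s (lv m))) (hsep : ∀ m, PBC.SepIn (Set.range (inc Y s (lv m)))) :
    (∀ (m : ℕ), 1 ≤ m → ∀ (n : ℤ) (z : (sC Y J s (m + 1)).homology n),
      (Cascade.Hd (sC Y J s) (sCd Y J s) (m + 1) n).hom z = 0 →
        ∃ y, (Cascade.Hd (sC Y J s) (sCd Y J s) m n).hom y = z) ∧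
    ∀ (n : ℕ), 0 < n → ∀ z : (sC Y J s 1).homology (n : ℤ),
      (Cascade.Hd (sC Y J s) (sCd Y J s) 1 (n : ℤ)).hom z = 0 → z = 0 := by
  have hbij : ∀ (m q : ℕ), Function.Bijective (xi Y s F J ι₀ m q).hom := fun m q => by
    haveI := hcpt m
    haveI := quasiIso_Γ_lam Y s F J ι₀ hJ (lv m) (hsep m)
    haveI : ∀ p, IsIso ((restCx Y s J (m + 1)).f p) := fun p =>
      (ConcreteCategory.isIso_iff_bijective _).2 (PBC.bijective_stkRest (tB Y (lv m)) (inc Y s (lv m)) s
        (inc_tB Y s (lv m)) Topology.IsEmbedding.subtypeVal (hsep m) (hcl m)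
        (fun x hx => ⟨⟨x, hx⟩, rfl⟩) _)
    haveI : IsIso (restCx Y s J (m + 1)) := HomologicalComplex.Hom.isIso_of_components _
    haveI : IsIso (xi Y s F J ι₀ m q) := by
      unfold xi
      rw [HomologicalComplex.homologyMap_comp]
      infer_instance
    exact ConcreteCategory.bijective_of_isIso _
  have key : ∀ (m q : ℕ) (z : (sC Y J s (m + 1)).homology (q : ℤ)),
      (Cascade.Hd (sC Y J s) (sCd Y J s) (m + 1) (q : ℤ)).hom z = 0 →
        (altD (FΦ Y s F q) m).hom ((hΦ c F q m).hom ((xi Y s F J ι₀ m q).hom z)) =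
          (xi Y s F J ι₀ m q).hom z := by
    intro m q z hz
    have h := ConcreteCategory.congr_hom (hΦ_altD c F q m) ((xi Y s F J ι₀ m q).hom z)
    have h' := (ConcreteCategory.congr_hom (xi_altD Y s F J ι₀ m q) z).symm.trans
      ((congrArg (xi Y s F J ι₀ (m + 1) q).hom hz).trans (map_zero _))
    change (hΦ c F q (m + 1)).hom ((altD (FΦ Y s F q) (m + 1)).hom _) + _ = _ at h
    rw [show (altD (FΦ Y s F q) (m + 1)).hom ((xi Y s F J ι₀ m q).hom z) = 0 from h', map_zero, zero_add] at h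
    exact h
  refine ⟨fun m hm n z hz => ?_, fun n hn z hz => ?_⟩
  · rcases Int.lt_or_le n 0 with hn | hn
    · have h0 : IsZero ((sC Y J s (m + 1)).homology n) :=
        HomologicalComplex.ExactAt.isZero_homology (ShortComplex.exact_of_isZero_X₂ _
          ((stk s).map_isZero ((CohTop.push _).map_isZero ((Col Y _).map_isZero
            (CochainComplex.isZero_of_isStrictlyGE J 0 n hn)))))
      exact ⟨0, (AddCommGrpCat.subsingleton_of_isZero h0).elim _ _⟩
    obtain ⟨q, rfl⟩ := Int.eq_ofNat_of_zero_le hn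
    obtain ⟨m, rfl⟩ := Nat.exists_eq_add_of_le' hm
    obtain ⟨y, hy⟩ := (hbij m q).2 ((hΦ c F q (m + 1)).hom ((xi Y s F J ι₀ (m + 1) q).hom z))
    refine ⟨y, (hbij (m + 1) q).1 ?_⟩
    exact (ConcreteCategory.congr_hom (xi_altD Y s F J ι₀ m q) y).trans
      ((congrArg _ hy).trans (key (m + 1) q z hz))
  · obtain ⟨q, rfl⟩ : ∃ q, n = q + 1 := ⟨n - 1, by omega⟩
    haveI := subsingleton_FΦ_bot (Y := Y) (s := s) F q
    refine (hbij 0 (q + 1)).1 ((key 0 (q + 1) z hz).symm.trans ?_)
    rw [Subsingleton.elim ((hΦ c F (q + 1) 0).hom ((xi Y s F J ι₀ 0 (q + 1)).hom z)) 0, map_zero, map_zero]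

end Groth.Agent.H15Site.DescSimp
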