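import Groth.Agent.H15Site.DescSimp.FibreRes

/-!
# The fibre complexes compute the cohomology of the fibres, naturally
-/

set_option autoImplicit false
set_option linter.style.haveILetI false
set_option linter.unusedSectionVars false
set_option backward.isDefEq.respectTransparency false
set_option backward.isDefEq.respectTransparency.types false

universe u

open CategoryTheory CategoryTheory.Limits Opposite Pseudofunctor Pseudofunctor.CoGrothendieck
open TopologicalSpace Groth.Agent.H15Site.OpensFib Groth.Agent.H15Site.DescTop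

noncomputable section

namespace Groth.Agent.H15Site.DescSimp

attribute [local instance 10000] SiteInst.hasSheafifySite SiteInst.hasWeakSheafifySite
  SiteInst.hasExtSite SiteInst.enoughInjSite

attribute [local instance] HasDerivedCategory.standard

theorem bijective_precomp' {Z : TopCat.{u}} {A L' L : CochainComplex (CohTop.Ab Z) ℤ} (a : A ⟶ L')
    [QuasiIso a] [L.IsKInjective] :
    Function.Bijective (fun g : (HomotopyCategory.quotient _ _).obj L' ⟶
        (HomotopyCategory.quotient _ (ComplexShape.up ℤ)).obj L =>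
      (HomotopyCategory.quotient _ _).map a ≫ g) := by
  haveI : IsIso (DerivedCategory.Qh.map ((HomotopyCategory.quotient _ _).map a)) := by
    haveI : IsIso (DerivedCategory.Q.map a) :=
      (DerivedCategory.isIso_Q_map_iff_quasiIso _ _).2 inferInstance
    exact (NatIso.isIso_map_iff (DerivedCategory.quotientCompQhIso _) a).2 inferInstance
  constructor
  · intro g g' h
    refine (CochainComplex.IsKInjective.Qh_map_bijective _ L).1 ?_
    exact (cancel_epi (DerivedCategory.Qh.map ((HomotopyCategory.quotient _ _).map a))).1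
      (by rw [← Functor.map_comp, ← Functor.map_comp]; exact congrArg _ h)
  · intro f
    obtain ⟨g, hg⟩ := (CochainComplex.IsKInjective.Qh_map_bijective _ L).2
      (inv (DerivedCategory.Qh.map ((HomotopyCategory.quotient _ _).map a)) ≫
        DerivedCategory.Qh.map f)
    refine ⟨g, (CochainComplex.IsKInjective.Qh_map_bijective _ L).1 ?_⟩
    rw [Functor.map_comp, hg, IsIso.hom_inv_id_assoc]

variable (Y : K Δ ⥤ TopCat.{u}) (s : base Y) (F : CohTop.Ab (base Y)) (J : CochainComplex (P₀ Y) ℤ)
  (ι₀ : (CochainComplex.singleFunctor (P₀ Y) 0).obj ((θP Y).obj F) ⟶ J) [QuasiIso ι₀]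

instance preservesFiniteColimits_Fk (k : K Δ) [PreservesFiniteColimits (Col Y k)] :
    PreservesFiniteColimits (Fk Y s k) :=
  comp_preservesFiniteColimits (Col Y k) (CohTop.pull (inc Y s k))

instance quasiIso_augF (k : K Δ) [IsIso (eta Y k)] [PreservesFiniteColimits (Col Y k)] :
    QuasiIso (augF Y s F J ι₀ k) := by
  haveI : QuasiIso (((Fk Y s k).mapHomologicalComplex (ComplexShape.up ℤ)).map ι₀) := inferInstance
  unfold augF
  infer_instance

instance (priority := 10000) isKInjective_R_fib (k : K Δ) : (PullCoh.R F (pF Y s k)).IsKInjective :=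
  CochainComplex.isKInjective_of_injective _ 0

instance (priority := 10000) isKInjective_pR_fib {k l : K Δ} (b : k ⟶ l) :
    (PullCoh.pR F (fmap Y s b) (pF Y s k)).IsKInjective :=
  PullCoh.isKInjective_pR F (fmap Y s b) (pF Y s k)

theorem exists_lam (k : K Δ) [IsIso (eta Y k)] [PreservesFiniteColimits (Col Y k)] :
    ∃ g : Lcx Y s J k ⟶ PullCoh.R F (pF Y s k),
      Nonempty (Homotopy (augF Y s F J ι₀ k ≫ g) (PullCoh.aug F (pF Y s k))) := by
  obtain ⟨g, hg⟩ := (bijective_precomp' (L := PullCoh.R F (pF Y s k)) (augF Y s F J ι₀ k)).2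
    ((HomotopyCategory.quotient _ _).map (PullCoh.aug F (pF Y s k)))
  obtain ⟨g, rfl⟩ := (HomotopyCategory.quotient _ _).map_surjective g
  exact ⟨g, ⟨HomotopyCategory.homotopyOfEq _ _ (((HomotopyCategory.quotient _ _).map_comp _ _).trans hg)⟩⟩

/-- The comparison with the cohomology of the fibre. -/
def lam (k : K Δ) [IsIso (eta Y k)] [PreservesFiniteColimits (Col Y k)] :
    Lcx Y s J k ⟶ PullCoh.R F (pF Y s k) :=
  Classical.choose (exists_lam Y s F J ι₀ k)

theorem lam_spec (k : K Δ) [IsIso (eta Y k)] [PreservesFiniteColimits (Col Y k)] :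
    Nonempty (Homotopy (augF Y s F J ι₀ k ≫ lam Y s F J ι₀ k) (PullCoh.aug F (pF Y s k))) :=
  Classical.choose_spec (exists_lam Y s F J ι₀ k)

instance quasiIso_lam (k : K Δ) [IsIso (eta Y k)] [PreservesFiniteColimits (Col Y k)] :
    QuasiIso (lam Y s F J ι₀ k) := by
  obtain ⟨H⟩ := lam_spec Y s F J ι₀ k
  haveI : QuasiIso (augF Y s F J ι₀ k ≫ lam Y s F J ι₀ k) := ⟨fun i => by
    rw [quasiIsoAt_iff_isIso_homologyMap, H.homologyMap_eq]
    infer_instance⟩
  exact quasiIso_of_comp_left (augF Y s F J ι₀ k) (lam Y s F J ι₀ k)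

theorem homotopy_lam {k l : K Δ} (b : k ⟶ l) [IsIso (eta Y k)] [PreservesFiniteColimits (Col Y k)]
    [IsIso (eta Y l)] [PreservesFiniteColimits (Col Y l)] :
    Nonempty (Homotopy
      (LstrCx Y s J b ≫ ((CohTop.push (fmap Y s b)).mapHomologicalComplex (ComplexShape.up ℤ)).map
        (lam Y s F J ι₀ k))
      (lam Y s F J ι₀ l ≫ PullCoh.lift F (fmap Y s b) (pF Y s l) (pF Y s k) (fmap_pF Y s b))) := by
  refine ⟨HomotopyCategory.homotopyOfEq _ _
    ((bijective_precomp' (L := PullCoh.pR F (fmap Y s b) (pF Y s k)) (augF Y s F J ι₀ l)).1 ?_)⟩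
  show _ ≫ _ = _ ≫ _
  rw [← Functor.map_comp, ← Functor.map_comp]
  refine Eq.trans ?_ (HomotopyCategory.eq_of_homotopy _ _
    ((Homotopy.ofEq (Category.assoc _ _ _).symm).trans
      (((lam_spec Y s F J ι₀ l).some.compRight _).trans
        (PullCoh.lift_spec F (fmap Y s b) (pF Y s l) (pF Y s k) (fmap_pF Y s b)).some))).symm
  let P := (CohTop.push (fmap Y s b)).mapHomologicalComplex (ComplexShape.up ℤ)
  have e : augF Y s F J ι₀ l ≫ LstrCx Y s J b ≫ P.map (lam Y s F J ι₀ k) =
      ((CochainComplex.singleFunctor (CohTop.Ab (fib Y s l)) 0).map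
          (PullCoh.φ F (fmap Y s b) (pF Y s l) (pF Y s k) (fmap_pF Y s b)) ≫
        (HomologicalComplex.singleMapHomologicalComplex (CohTop.push (fmap Y s b)) (ComplexShape.up ℤ) 0).inv.app
          (PullCoh.G F (pF Y s k))) ≫ P.map (augF Y s F J ι₀ k ≫ lam Y s F J ι₀ k) := by
    rw [← Category.assoc, augF_LstrCx, P.map_comp]
    simp only [Category.assoc]
    rfl
  exact HomotopyCategory.eq_of_homotopy _ _ ((Homotopy.ofEq e).trans
    ((((CohTop.push (fmap Y s b)).mapHomotopy (lam_spec Y s F J ι₀ k).some).compLeft _).trans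
      (Homotopy.ofEq (Category.assoc _ _ _))))

theorem quasiIso_Γ_lam [J.IsStrictlyGE 0] (hJ : ∀ q, Injective (J.X q)) (k : K Δ) [IsIso (eta Y k)]
    [PreservesFiniteColimits (Col Y k)] [CompactSpace (fib Y s k)]
    (hs : PBC.SepIn (Set.range (inc Y s k))) :
    QuasiIso (((PullCoh.Γ (fib Y s k)).mapHomologicalComplex (ComplexShape.up ℤ)).map (lam Y s F J ι₀ k)) := by
  haveI := PBC.t2_of_sep (inc Y s k) Topology.IsEmbedding.subtypeVal hs
  haveI : CochainComplex.IsStrictlyGE (Lcx Y s J k) 0 := by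
    rw [CochainComplex.isStrictlyGE_iff]
    exact fun q hq => (Fk Y s k).map_isZero (CochainComplex.isZero_of_isStrictlyGE J 0 q hq)
  haveI := (sheafificationAdjunction (Opens.grothendieckTopology (fib Y s k)) AddCommGrpCat.{u}).rightAdjoint_preservesLimits
  exact H16Derived.AcyclicLES.quasiIso_map (PullCoh.Γ (fib Y s k)) (lam Y s F J ι₀ k) 0
    (fun q => haveI := hJ q; PBC.isAcyclic_Γ_of_soft
      (PBC.soft_pull (inc Y s k) ((Col Y k).obj (J.X q)) Topology.IsEmbedding.subtypeVal hs
        (flasque_Col (Y := Y) (J.X q) k)))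
    (fun q => H16Derived.AcyclicLES.isAcyclic_of_injective (PullCoh.Γ (fib Y s k)) ((PullCoh.R F (pF Y s k)).X q))

end Groth.Agent.H15Site.DescSimp
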