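import Groth.Agent.H15Site.DescSimp.Unit
import Groth.Agent.H15Site.PBC.Stalk
import Groth.Agent.H15Site.PBC.BCMain
import Groth.Agent.H15Site.PullCoh

/-!
# The restriction of the levels of a resolution to the fibres
-/

set_option autoImplicit false
set_option linter.style.haveILetI false
set_option linter.unusedSectionVars false
set_option backward.isDefEq.respectTransparency false
set_option backward.isDefEq.respectTransparency.types false

universe u

open CategoryTheory CategoryTheory.Limits Opposite Pseudofunctor Pseudofunctor.CoGrothendieck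
open TopologicalSpace Groth.Agent.H15Site.OpensFib Groth.Agent.H15Site.DescTop

noncomputable section

namespace Groth.Agent.H15Site.DescSimp

attribute [local instance 10000] SiteInst.hasSheafifySite SiteInst.hasWeakSheafifySite
  SiteInst.hasExtSite SiteInst.enoughInjSite

attribute [local instance] HasDerivedCategory.standard

instance (priority := 10000) preservesFiniteLimits_pullT {A B : TopCat.{u}} (f : A ⟶ B) :
    PreservesFiniteLimits (CohTop.pull f) := ClosedPushAb.pull_preservesFiniteLimits f

instance (priority := 10000) preservesFiniteColimits_pullT {A B : TopCat.{u}} (f : A ⟶ B) :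
    PreservesFiniteColimits (CohTop.pull f) :=
  haveI : PreservesColimitsOfSize.{0, 0} (CohTop.pull f) :=
    (PullCoh.adjP f).leftAdjoint_preservesColimits
  PreservesColimitsOfSize.preservesFiniteColimits _

instance (priority := 10000) additive_pullT {A B : TopCat.{u}} (f : A ⟶ B) : (CohTop.pull f).Additive :=
  Functor.additive_of_preserves_binary_products _

instance (priority := 10000) additive_pushT {A B : TopCat.{u}} (f : A ⟶ B) : (CohTop.push f).Additive :=
  haveI : PreservesFiniteLimits (CohTop.push f) := FlasquePush.push_pfl f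
  Functor.additive_of_preserves_binary_products _

variable (Y : K Δ ⥤ TopCat.{u}) (s : base Y)

/-- A level restricted to its fibre. -/
abbrev Fk (k : K Δ) : P₀ Y ⥤ CohTop.Ab (fib Y s k) := Col Y k ⋙ CohTop.pull (inc Y s k)

instance (priority := 10000) preservesFiniteLimits_pullInc (k : K Δ) :
    PreservesFiniteLimits (CohTop.pull (inc Y s k)) := preservesFiniteLimits_pullT (inc Y s k)

instance (priority := 10000) preservesFiniteColimits_pullInc (k : K Δ) :
    PreservesFiniteColimits (CohTop.pull (inc Y s k)) := preservesFiniteColimits_pullT (inc Y s k)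

instance (priority := 10000) additive_pushFmap {k l : K Δ} (b : k ⟶ l) :
    (CohTop.push (fmap Y s b)).Additive := additive_pushT (fmap Y s b)

instance (priority := 10000) preservesFiniteLimits_Fk (k : K Δ) : PreservesFiniteLimits (Fk Y s k) :=
  comp_preservesFiniteLimits (Col Y k) (CohTop.pull (inc Y s k))

instance (priority := 10000) additive_Fk (k : K Δ) : (Fk Y s k).Additive :=
  Functor.additive_of_preserves_binary_products _

instance (priority := 10000) additive_Fk_push {k l : K Δ} (b : k ⟶ l) :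
    (Fk Y s k ⋙ CohTop.push (fmap Y s b)).Additive := @Functor.instAdditiveComp _ _ _ _ _ _ _ _ _ _ _ _ _

/-- The fibre over the base. -/
abbrev pF (k : K Δ) : fib Y s k ⟶ base Y := inc Y s k ≫ tB Y k

lemma fmap_pF {k l : K Δ} (b : k ⟶ l) : fmap Y s b ≫ pF Y s l = pF Y s k := by
  ext z
  exact tB_apply Y b z.1

/-- The unit of a restriction. -/
abbrev unF (k : K Δ) (M : P₀ Y) :
    (Col Y k).obj M ⟶ (CohTop.push (inc Y s k)).obj ((Fk Y s k).obj M) :=
  (PullCoh.adjP (inc Y s k)).unit.app ((Col Y k).obj M)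

/-- The structure map followed by restriction. -/
def strU {k l : K Δ} (b : k ⟶ l) (M : P₀ Y) :
    (Col Y l).obj M ⟶ (CohTop.push (inc Y s l)).obj ((CohTop.push (fmap Y s b)).obj ((Fk Y s k).obj M)) :=
  (str b).app ((OpensRestrict.ranS Y).obj M) ≫ (CohTop.push (Y.map b)).map (unF Y s k M)

/-- The structure maps on fibres. -/
def Lstr {k l : K Δ} (b : k ⟶ l) : Fk Y s l ⟶ Fk Y s k ⋙ CohTop.push (fmap Y s b) where
  app M := ((PullCoh.adjP (inc Y s l)).homEquiv _ _).symm (strU Y s b M)
  naturality M M' g := by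
    refine ((PullCoh.adjP (inc Y s l)).homEquiv_naturality_left_symm _ _).symm.trans
      (Eq.trans ?_ ((PullCoh.adjP (inc Y s l)).homEquiv_naturality_right_symm _ _))
    refine congrArg _ ?_
    have h1 := (str b).naturality ((OpensRestrict.ranS Y).map g)
    have h2 := congrArg (CohTop.push (Y.map b)).map
      ((PullCoh.adjP (inc Y s k)).unit.naturality ((Col Y k).map g))
    rw [Functor.map_comp, Functor.map_comp] at h2
    refine (Category.assoc _ _ _).symm.trans ((congrArg (· ≫ (CohTop.push (Y.map b)).map (unF Y s k M')) h1).trans ?_)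
    refine (Category.assoc _ _ _).trans (Eq.trans ?_ (Category.assoc _ _ _).symm)
    exact congrArg ((str b).app ((OpensRestrict.ranS Y).obj M) ≫ ·) h2

lemma unF_Lstr {k l : K Δ} (b : k ⟶ l) (M : P₀ Y) :
    unF Y s l M ≫ (CohTop.push (inc Y s l)).map ((Lstr Y s b).app M) =
      strU Y s b M :=
  (Adjunction.homEquiv_unit (PullCoh.adjP (inc Y s l)) _ _ ((Lstr Y s b).app M)).symm.trans
    (((PullCoh.adjP (inc Y s l)).homEquiv _ _).apply_symm_apply (strU Y s b M))

variable (F : CohTop.Ab (base Y))

section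

variable (k : K Δ) [IsIso (eta Y k)]

/-- The inverse image on a fibre. -/
def eF : PullCoh.G F (pF Y s k) ≅ (Fk Y s k).obj ((θP Y).obj F) :=
  (PBC.pullCompIso (inc Y s k) (tB Y k)).symm.app F ≪≫
    (CohTop.pull (inc Y s k)).mapIso ((asIso (eta Y k)).app F)

lemma unit_eF :
    (PullCoh.adjP (pF Y s k)).unit.app F ≫ (CohTop.push (pF Y s k)).map (eF Y s F k).hom =
      (toLevel Y k).app F ≫ (CohTop.push (tB Y k)).map (unF Y s k ((θP Y).obj F)) := by
  let a₁ := PullCoh.adjP (tB Y k)
  let a₂ := PullCoh.adjP (inc Y s k)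
  have h := Adjunction.unit_leftAdjointUniq_hom_app (PullCoh.adjP (pF Y s k)) (a₁.comp a₂) F
  rw [Adjunction.comp_unit_app] at h
  have e : (eF Y s F k).hom =
      ((PullCoh.adjP (pF Y s k)).leftAdjointUniq (a₁.comp a₂)).hom.app F ≫
        (CohTop.pull (inc Y s k)).map ((eta Y k).app F) := by
    show (PBC.pullCompIso (inc Y s k) (tB Y k)).inv.app F ≫ _ = _
    rw [PBC.pullCompIso, Adjunction.leftAdjointUniq_inv_app]
    rfl
  rw [e, Functor.map_comp, ← Category.assoc]
  refine (congrArg (· ≫ (CohTop.push (pF Y s k)).map ((CohTop.pull (inc Y s k)).map ((eta Y k).app F))) h).trans ?_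
  have h2 := a₂.unit.naturality ((eta Y k).app F)
  have h3 := (a₁.homEquiv F _).apply_symm_apply ((toLevel Y k).app F)
  rw [Adjunction.homEquiv_unit] at h3
  refine Eq.trans ?_ (congrArg (· ≫ (CohTop.push (tB Y k)).map (unF Y s k ((θP Y).obj F))) h3)
  refine (Category.assoc _ _ _).trans (Eq.trans ?_ (Category.assoc _ _ _).symm)
  refine congrArg (a₁.unit.app F ≫ ·) ?_
  exact ((CohTop.push (tB Y k)).map_comp _ _).symm.trans
    ((congrArg (CohTop.push (tB Y k)).map h2.symm).trans ((CohTop.push (tB Y k)).map_comp _ _))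

lemma eF_un {V : Opens (base Y)} (x : F.obj.obj (op V)) :
    (eF Y s F k).hom.hom.app _ ((PBC.un F (pF Y s k)).hom.app (op V) x) =
      (unF Y s k ((θP Y).obj F)).hom.app _ (((toLevel Y k).app F).hom.app (op V) x) :=
  ConcreteCategory.congr_hom (congrArg (fun φ => φ.hom.app (op V)) (unit_eF Y s F k)) x

end

@[reassoc]
lemma eF_Lstr {k l : K Δ} (b : k ⟶ l) [IsIso (eta Y k)] [IsIso (eta Y l)] :
    (eF Y s F l).hom ≫ (Lstr Y s b).app ((θP Y).obj F) =
      PullCoh.φ F (fmap Y s b) (pF Y s l) (pF Y s k) (fmap_pF Y s b) ≫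
        (CohTop.push (fmap Y s b)).map (eF Y s F k).hom := by
  apply ((PullCoh.adjP (pF Y s l)).homEquiv F _).injective
  rw [Adjunction.homEquiv_unit, Adjunction.homEquiv_unit]
  refine ObjectProperty.hom_ext _ (NatTrans.ext (funext fun V => ?_))
  ext x
  obtain ⟨V⟩ := V
  let P := (θP Y).obj F
  let T := (OpensRestrict.ranS Y).obj P
  show ((Lstr Y s b).app P).hom.app _ ((eF Y s F l).hom.hom.app (op ((Opens.map (pF Y s l)).obj V))
      ((PBC.un F (pF Y s l)).hom.app (op V) x)) =
    (eF Y s F k).hom.hom.app (op ((Opens.map (fmap Y s b)).obj ((Opens.map (pF Y s l)).obj V)))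
      ((PullCoh.φ F (fmap Y s b) (pF Y s l) (pF Y s k) (fmap_pF Y s b)).hom.app
        (op ((Opens.map (pF Y s l)).obj V)) ((PBC.un F (pF Y s l)).hom.app (op V) x))
  rw [φ_un]
  refine Eq.trans ?_ (ConcreteCategory.congr_hom ((eF Y s F k).hom.hom.naturality _)
    ((PBC.un F (pF Y s k)).hom.app (op V) x)).symm
  refine Eq.trans ?_ (congrArg _ (eF_un Y s F k x)).symm
  refine (congrArg _ (eF_un Y s F l x)).trans ?_
  refine (ConcreteCategory.congr_hom (congrArg
    (fun φ => φ.hom.app (op ((Opens.map (tB Y l)).obj V))) (unF_Lstr Y s b P))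
    (((toLevel Y l).app F).hom.app (op V) x)).trans ?_
  have hVo : (Opens.map (tB Y k)).obj V = (Opens.map (Y.map b)).obj ((Opens.map (tB Y l)).obj V) := by
    ext y
    show tB Y k y ∈ V ↔ tB Y l (Y.map b y) ∈ V
    rw [tB_apply]
  have hst : ((str b).app T).hom.app (op ((Opens.map (tB Y l)).obj V))
      (((toLevel Y l).app F).hom.app (op V) x) =
      ((Col Y k).obj P).obj.map (eqToHom hVo.symm).op (((toLevel Y k).app F).hom.app (op V) x) := by
    show T.obj.map _ (T.obj.map _ _) = T.obj.map _ (T.obj.map _ _)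
    refine (ConcreteCategory.congr_hom (T.obj.map_comp _ _).symm _).trans
      (Eq.trans ?_ (ConcreteCategory.congr_hom (T.obj.map_comp _ _) _))
    refine congrArg (fun g => (T.obj.map g).hom _) (Quiver.Hom.unop_inj (hom_ext ?_))
    exact bot_ext _ _
  refine (congrArg ((unF Y s k P).hom.app (op ((Opens.map (Y.map b)).obj ((Opens.map (tB Y l)).obj V)))) hst).trans ?_
  refine (ConcreteCategory.congr_hom ((unF Y s k P).hom.naturality _) _).trans ?_
  rfl

variable (J : CochainComplex (P₀ Y) ℤ)

/-- The fibre complexes. -/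
abbrev Lcx (k : K Δ) : CochainComplex (CohTop.Ab (fib Y s k)) ℤ :=
  ((Fk Y s k).mapHomologicalComplex (ComplexShape.up ℤ)).obj J

variable (ι₀ : (CochainComplex.singleFunctor (P₀ Y) 0).obj ((θP Y).obj F) ⟶ J)

/-- The augmentation of a fibre complex. -/
def augF (k : K Δ) [IsIso (eta Y k)] :
    (CochainComplex.singleFunctor (CohTop.Ab (fib Y s k)) 0).obj (PullCoh.G F (pF Y s k)) ⟶ Lcx Y s J k :=
  (CochainComplex.singleFunctor (CohTop.Ab (fib Y s k)) 0).map (eF Y s F k).hom ≫
    (HomologicalComplex.singleMapHomologicalComplex (Fk Y s k) (ComplexShape.up ℤ) 0).inv.app ((θP Y).obj F) ≫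
    ((Fk Y s k).mapHomologicalComplex (ComplexShape.up ℤ)).map ι₀

/-- The structure maps of the fibre complexes. -/
abbrev LstrCx {k l : K Δ} (b : k ⟶ l) :
    Lcx Y s J l ⟶ ((CohTop.push (fmap Y s b)).mapHomologicalComplex (ComplexShape.up ℤ)).obj (Lcx Y s J k) :=
  (NatTrans.mapHomologicalComplex (Lstr Y s b) (ComplexShape.up ℤ)).app J

lemma augF_LstrCx {k l : K Δ} (b : k ⟶ l) [IsIso (eta Y k)] [IsIso (eta Y l)] :
    augF Y s F J ι₀ l ≫ LstrCx Y s J b =
      (CochainComplex.singleFunctor (CohTop.Ab (fib Y s l)) 0).map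
          (PullCoh.φ F (fmap Y s b) (pF Y s l) (pF Y s k) (fmap_pF Y s b)) ≫
        (HomologicalComplex.singleMapHomologicalComplex (CohTop.push (fmap Y s b)) (ComplexShape.up ℤ) 0).inv.app
          (PullCoh.G F (pF Y s k)) ≫
        ((CohTop.push (fmap Y s b)).mapHomologicalComplex (ComplexShape.up ℤ)).map (augF Y s F J ι₀ k) := by
  refine HomologicalComplex.from_single_hom_ext ?_
  have hn := (Lstr Y s b).naturality
    (HomologicalComplex.singleObjXSelf (ComplexShape.up ℤ) 0 ((θP Y).obj F)).inv
  simp [augF, CochainComplex.singleFunctor, CochainComplex.singleFunctors,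
    HomologicalComplex.singleMapHomologicalComplex_inv_app_self, HomologicalComplex.single_map_f_self]
  simp at hn
  rw [reassoc_of% hn, ← eF_Lstr_assoc]

end Groth.Agent.H15Site.DescSimp
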