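import Groth.Agent.H15Site.OpensFib
import Groth.Agent.H15Site.SiteInst
import Mathlib.AlgebraicTopology.AlternatingFaceMapComplex
import Mathlib.Algebra.Category.Grp.Adjunctions
import Mathlib.CategoryTheory.Abelian.Images
import Mathlib.CategoryTheory.Preadditive.Injective.Basic
import Mathlib.CategoryTheory.Functor.KanExtension.Adjunction

/-!
# The Čech rows of sheaves on the total site of an augmented simplicial space
-/

set_option autoImplicit false
set_option linter.style.haveILetI false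
set_option linter.unusedSectionVars false
set_option backward.isDefEq.respectTransparency false
set_option backward.isDefEq.respectTransparency.types false

universe u

open CategoryTheory CategoryTheory.Limits Opposite Pseudofunctor Pseudofunctor.CoGrothendieck
open TopologicalSpace Groth.Agent.H15Site.OpensFib

noncomputable section

namespace Groth.Agent.H15Site.DescSimp

abbrev Δ := SimplexCategory

/-- Augmented indices: `0` is the base, `m + 1` is `[m]`. -/
def ix : ℕ → WithInitial Δ
  | 0 => .star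
  | m + 1 => .of (SimplexCategory.mk m)

/-- The cofaces. -/
def face : ∀ (m : ℕ), Fin (m + 1) → (ix m ⟶ ix (m + 1))
  | 0, _ => WithInitial.starInitial.to _
  | _ + 1, i => WithInitial.incl.map (SimplexCategory.δ i)

/-- A monotone map from an index gets a new first vertex. -/
def consHom {n : Δ} : ∀ {m : ℕ}, (ix m ⟶ WithInitial.of n) → (ix (m + 1) ⟶ WithInitial.of n)
  | 0, _ => WithInitial.incl.map (SimplexCategory.const _ n 0)
  | _ + 1, a => WithInitial.incl.map (SimplexCategory.Hom.mk
      ⟨Fin.cases 0 (fun i => (WithInitial.down a).toOrderHom i), fun i j hij => by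
        cases i using Fin.cases with
        | zero => exact Fin.zero_le _
        | succ i =>
          cases j using Fin.cases with
          | zero => exact absurd hij (by simp)
          | succ j => exact (WithInitial.down a).toOrderHom.monotone (Fin.succ_le_succ_iff.1 hij)⟩)

lemma face_zero_cons {n : Δ} : ∀ {m : ℕ} (a : ix m ⟶ WithInitial.of n),
    face m 0 ≫ consHom a = a
  | 0, _ => WithInitial.starInitial.hom_ext _ _
  | m + 1, a => by
    refine congrArg WithInitial.incl.map (?_ : SimplexCategory.δ (n := m) 0 ≫ _ = WithInitial.down a)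
    exact SimplexCategory.Hom.ext _ _ (OrderHom.ext _ _ (funext fun i => rfl))

lemma face_succ_cons {n : Δ} : ∀ {m : ℕ} (i : Fin (m + 1)) (a : ix (m + 1) ⟶ WithInitial.of n),
    face (m + 1) i.succ ≫ consHom a = consHom (face m i ≫ a)
  | 0, i, a => by
    refine congrArg WithInitial.incl.map (?_ : SimplexCategory.δ (n := 0) i.succ ≫ _ = SimplexCategory.const _ n 0)
    refine SimplexCategory.Hom.ext _ _ (OrderHom.ext _ _ (funext fun j => ?_))
    obtain rfl : i = 0 := Fin.fin_one_eq_zero i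
    obtain rfl : j = 0 := Fin.fin_one_eq_zero j
    rfl
  | m + 1, i, a => by
    refine congrArg WithInitial.incl.map (?_ : SimplexCategory.δ (n := m + 1) i.succ ≫ _ = _)
    refine SimplexCategory.Hom.ext _ _ (OrderHom.ext _ _ (funext fun j => ?_))
    cases j using Fin.cases with
    | zero =>
      simp [consHom, SimplexCategory.δ, SimplexCategory.comp_toOrderHom]
      rfl
    | succ j =>
      simp [consHom, SimplexCategory.δ, SimplexCategory.comp_toOrderHom]
      rfl

/-- The augmented alternating coface map. -/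
def altD (Z : WithInitial Δ ⥤ AddCommGrpCat.{u}) (m : ℕ) : Z.obj (ix m) ⟶ Z.obj (ix (m + 1)) :=
  ∑ i : Fin (m + 1), ((-1 : ℤ) ^ (i : ℕ)) • Z.map (face m i)

theorem altD_altD (Z : WithInitial Δ ⥤ AddCommGrpCat.{u}) (m : ℕ) : altD Z m ≫ altD Z (m + 1) = 0 := by
  cases m with
  | zero =>
    have e : ∀ j : Fin 2, Z.map (face 0 0) ≫ Z.map (face 1 j) =
        Z.map (WithInitial.starInitial.to (ix 2)) := fun j => by
      rw [← Z.map_comp]
      exact congrArg Z.map (WithInitial.starInitial.hom_ext _ _)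
    show (∑ i : Fin 1, _) ≫ (∑ i : Fin 2, _) = 0
    simp only [Fin.sum_univ_one, Fin.sum_univ_two, Fin.val_zero, pow_zero, one_smul,
      Preadditive.comp_add, Fin.val_one, pow_one, neg_smul, Preadditive.comp_neg]
    rw [e 0, e 1, add_neg_cancel]
  | succ m => exact AlgebraicTopology.AlternatingCofaceMapComplex.d_squared (WithInitial.incl ⋙ Z) m

lemma sum_hom_apply {A B : AddCommGrpCat.{u}} {ι : Type*} (s : Finset ι) (g : ι → (A ⟶ B)) (a : A) :
    (∑ i ∈ s, g i).hom a = ∑ i ∈ s, (g i).hom a := by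
  classical
  induction s using Finset.induction with
  | empty => simp
  | insert i s hi ih => rw [Finset.sum_insert hi, Finset.sum_insert hi, ← ih]; rfl

variable (Y : K Δ ⥤ TopCat.{u})

/-- The map to the base. -/
abbrev tB (k : K Δ) : Y.obj k ⟶ Y.obj (FibDesc.bot Δ) := Y.map ((botTerminal (D := Δ)).from k)

lemma tB_apply {k l : K Δ} (b : k ⟶ l) (x : Y.obj k) : tB Y l (Y.map b x) = tB Y k x := by
  show (Y.map b ≫ Y.map _) x = _
  rw [← Y.map_comp, bot_ext (b ≫ (botTerminal (D := Δ)).from l) ((botTerminal (D := Δ)).from k)]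

/-- The open over `V` at each index. -/
def GV (V : Opens (Y.obj (FibDesc.bot Δ))) : K Δ ⥤ ∫ᶜ (F Y) where
  obj k := obj' k ((Opens.map (tB Y k)).obj V)
  map {k l} b := mkHom _ _ b (fun x hx => by
    show tB Y l (Y.map b x) ∈ V
    rw [tB_apply]
    exact hx)
  map_id k := hom_ext rfl
  map_comp f g := hom_ext rfl

/-- Presheaves on the plain part. -/
abbrev PP := (∫ᶜ (FibDesc.part (F Y)))ᵒᵖ ⥤ AddCommGrpCat.{u}

/-- Presheaves on the augmented total category. -/
abbrev AP := (∫ᶜ (F Y))ᵒᵖ ⥤ AddCommGrpCat.{u}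

/-- The free presheaf on an object of the augmented category, on the plain part. -/
def FP (X : ∫ᶜ (F Y)) : PP Y := (FibDesc.incl (F Y)).op ⋙ yoneda.obj X ⋙ AddCommGrpCat.free

/-- Functoriality. -/
def FPmap {X X' : ∫ᶜ (F Y)} (g : X ⟶ X') : FP Y X ⟶ FP Y X' :=
  Functor.whiskerLeft (FibDesc.incl (F Y)).op (Functor.whiskerRight (yoneda.map g) AddCommGrpCat.free)

/-- The right Kan extension to the augmented category. -/
abbrev ran : PP Y ⥤ AP Y := (FibDesc.incl (F Y)).op.ran

/-- Elements of a presheaf are maps from free presheaves. -/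
def elEquiv (T : AP Y) (X : ∫ᶜ (F Y)) : (yoneda.obj X ⋙ AddCommGrpCat.free ⟶ T) ≃ T.obj (op X) where
  toFun ψ := (ψ.app (op X)).hom (FreeAbelianGroup.of (𝟙 X))
  invFun v :=
    { app := fun Z => AddCommGrpCat.ofHom (FreeAbelianGroup.lift fun f => (T.map f.op).hom v)
      naturality := fun Z Z' g => by
        refine AddCommGrpCat.hom_ext (FreeAbelianGroup.lift_ext _ _ fun f => ?_)
        show (FreeAbelianGroup.lift fun (h : Z'.unop ⟶ X) => (T.map h.op).hom v) (FreeAbelianGroup.map _ (FreeAbelianGroup.of f)) =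
          (T.map g).hom ((FreeAbelianGroup.lift fun (h : Z.unop ⟶ X) => (T.map h.op).hom v) (FreeAbelianGroup.of f))
        rw [FreeAbelianGroup.map_of_apply, FreeAbelianGroup.lift_apply_of, FreeAbelianGroup.lift_apply_of]
        show (T.map ((g.unop ≫ f).op)).hom v = _
        rw [op_comp, T.map_comp]
        rfl }
  left_inv ψ := by
    refine NatTrans.ext (funext fun Z => AddCommGrpCat.hom_ext (FreeAbelianGroup.lift_ext _ _ fun f => ?_))
    show (FreeAbelianGroup.lift fun f => _) (FreeAbelianGroup.of f) = _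
    rw [FreeAbelianGroup.lift_apply_of]
    refine (ConcreteCategory.congr_hom (ψ.naturality f.op) (FreeAbelianGroup.of (𝟙 X))).symm.trans ?_
    show (ψ.app Z).hom (FreeAbelianGroup.map _ (FreeAbelianGroup.of (𝟙 X))) = _
    rw [FreeAbelianGroup.map_of_apply]
    exact congrArg (fun a => (ψ.app Z).hom (FreeAbelianGroup.of a)) (Category.comp_id f)
  right_inv v := by
    show (FreeAbelianGroup.lift fun f => (T.map f.op).hom v) (FreeAbelianGroup.of (𝟙 X)) = v
    rw [FreeAbelianGroup.lift_apply_of, op_id, T.map_id]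
    rfl

/-- Values of the right Kan extension as maps from free presheaves. -/
def ranEquiv (M : PP Y) (X : ∫ᶜ (F Y)) : (FP Y X ⟶ M) ≃+ ((ran Y).obj M).obj (op X) where
  toEquiv := (((FibDesc.incl (F Y)).op.ranAdjunction AddCommGrpCat.{u}).homEquiv
    (yoneda.obj X ⋙ AddCommGrpCat.free) M).trans (elEquiv Y _ X)
  map_add' ψ χ := by
    have h := (((FibDesc.incl (F Y)).op.ranAdjunction AddCommGrpCat.{u})).homAddEquiv
      (yoneda.obj X ⋙ AddCommGrpCat.free) M |>.map_add ψ χ
    show ((((FibDesc.incl (F Y)).op.ranAdjunction AddCommGrpCat.{u}).homEquiv _ _ (ψ + χ)).app (op X)).hom _ = _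
    rw [show ((FibDesc.incl (F Y)).op.ranAdjunction AddCommGrpCat.{u}).homEquiv _ _ (ψ + χ) = _ from h]
    rfl

theorem ranEquiv_nat (M : PP Y) {X X' : ∫ᶜ (F Y)} (g : X ⟶ X') (ψ : FP Y X' ⟶ M) :
    ranEquiv Y M X (FPmap Y g ≫ ψ) = (((ran Y).obj M).map g.op).hom (ranEquiv Y M X' ψ) := by
  let a := (FibDesc.incl (F Y)).op.ranAdjunction AddCommGrpCat.{u}
  show ((a.homEquiv _ _ (((Functor.whiskeringLeft _ _ AddCommGrpCat.{u}).obj (FibDesc.incl (F Y)).op).map
    (Functor.whiskerRight (yoneda.map g) AddCommGrpCat.free) ≫ ψ)).app (op X)).hom (FreeAbelianGroup.of (𝟙 X)) =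
      (((ran Y).obj M).map g.op).hom (((a.homEquiv _ _ ψ).app (op X')).hom (FreeAbelianGroup.of (𝟙 X')))
  rw [a.homEquiv_naturality_left]
  refine Eq.trans ?_ (ConcreteCategory.congr_hom ((a.homEquiv _ _ ψ).naturality g.op) (FreeAbelianGroup.of (𝟙 X')))
  show ((a.homEquiv _ _ ψ).app (op X)).hom (FreeAbelianGroup.map _ (FreeAbelianGroup.of (𝟙 X))) =
    ((a.homEquiv _ _ ψ).app (op X)).hom (FreeAbelianGroup.map _ (FreeAbelianGroup.of (𝟙 X')))
  rw [FreeAbelianGroup.map_of_apply, FreeAbelianGroup.map_of_apply]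
  exact congrArg (fun b => ((a.homEquiv _ _ ψ).app (op X)).hom (FreeAbelianGroup.of b))
    ((Category.id_comp g).trans (Category.comp_id g).symm)

/-- The row of a presheaf over an open of the base. -/
abbrev row (T : AP Y) (V : Opens (Y.obj (FibDesc.bot Δ))) : WithInitial Δ ⥤ AddCommGrpCat.{u} :=
  (GV Y V).rightOp ⋙ T

variable (V : Opens (Y.obj (FibDesc.bot Δ)))

/-- The chain of free presheaves. -/
def chD (m : ℕ) : FP Y ((GV Y V).obj (op (ix (m + 1)))) ⟶ FP Y ((GV Y V).obj (op (ix m))) :=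
  ∑ i : Fin (m + 1), ((-1 : ℤ) ^ (i : ℕ)) • FPmap Y ((GV Y V).map (face m i).op)

theorem ranEquiv_chD (M : PP Y) (m : ℕ) (ψ : FP Y ((GV Y V).obj (op (ix m))) ⟶ M) :
    ranEquiv Y M _ (chD Y V m ≫ ψ) =
      (altD (row Y ((ran Y).obj M) V) m).hom (ranEquiv Y M _ ψ) := by
  rw [chD, altD, Preadditive.sum_comp, map_sum, sum_hom_apply]
  refine Finset.sum_congr rfl fun i _ => ?_
  rw [Preadditive.zsmul_comp, map_zsmul, ranEquiv_nat]
  rfl

/-- The contraction on generators. -/
def hGen {Z : ∫ᶜ (FibDesc.part (F Y))} {m : ℕ}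
    (f : (FibDesc.incl (F Y)).obj Z ⟶ (GV Y V).obj (op (ix m))) :
    (FibDesc.incl (F Y)).obj Z ⟶ (GV Y V).obj (op (ix (m + 1))) :=
  mkHom _ _ (consHom (n := Z.base.unop) f.base.unop).op (fun x hx => by
    show tB Y _ (Y.map _ x) ∈ V
    rw [tB_apply]
    have := le_of_hom f hx
    change tB Y _ (Y.map f.base x) ∈ V at this
    rwa [tB_apply] at this)

/-- The contraction. -/
def hC (Z : ∫ᶜ (FibDesc.part (F Y))) (m : ℕ) :
    (FP Y ((GV Y V).obj (op (ix m)))).obj (op Z) →+ (FP Y ((GV Y V).obj (op (ix (m + 1))))).obj (op Z) :=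
  FreeAbelianGroup.lift fun f => FreeAbelianGroup.of (hGen Y V f)

lemma chD_of (Z : ∫ᶜ (FibDesc.part (F Y))) (m : ℕ)
    (f : (FibDesc.incl (F Y)).obj Z ⟶ (GV Y V).obj (op (ix (m + 1)))) :
    ((chD Y V m).app (op Z)).hom (FreeAbelianGroup.of f) =
      ∑ i : Fin (m + 1), ((-1 : ℤ) ^ (i : ℕ)) • FreeAbelianGroup.of (f ≫ (GV Y V).map (face m i).op) := by
  rw [chD, NatTrans.app_sum, sum_hom_apply]
  refine Finset.sum_congr rfl fun i _ => ?_
  refine congrArg (fun b : FreeAbelianGroup ((FibDesc.incl (F Y)).obj Z ⟶ (GV Y V).obj (op (ix m))) => ((-1 : ℤ) ^ (i : ℕ)) • b) ?_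
  exact FreeAbelianGroup.map_of_apply _

theorem homotopy_zero (Z : ∫ᶜ (FibDesc.part (F Y))) (a : (FP Y ((GV Y V).obj (op (ix 0)))).obj (op Z)) :
    ((chD Y V 0).app (op Z)).hom (hC Y V Z 0 a) = a := by
  suffices h : ((chD Y V 0).app (op Z)).hom.comp (hC Y V Z 0) = AddMonoidHom.id _ from DFunLike.congr_fun h a
  refine FreeAbelianGroup.lift_ext _ _ fun f => ?_
  show ((chD Y V 0).app (op Z)).hom ((FreeAbelianGroup.lift _) (FreeAbelianGroup.of f)) = FreeAbelianGroup.of f
  rw [FreeAbelianGroup.lift_apply_of, chD_of, Fin.sum_univ_one, Fin.val_zero, pow_zero, one_smul]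
  exact congrArg FreeAbelianGroup.of (hom_ext (bot_ext _ _))

theorem homotopy_succ (Z : ∫ᶜ (FibDesc.part (F Y))) (m : ℕ)
    (a : (FP Y ((GV Y V).obj (op (ix (m + 1))))).obj (op Z)) :
    ((chD Y V (m + 1)).app (op Z)).hom (hC Y V Z (m + 1) a) +
      hC Y V Z m (((chD Y V m).app (op Z)).hom a) = a := by
  suffices h : ((chD Y V (m + 1)).app (op Z)).hom.comp (hC Y V Z (m + 1)) +
      (hC Y V Z m).comp ((chD Y V m).app (op Z)).hom = AddMonoidHom.id _ from DFunLike.congr_fun h a
  refine FreeAbelianGroup.lift_ext _ _ fun f => ?_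
  show ((chD Y V (m + 1)).app (op Z)).hom ((FreeAbelianGroup.lift _) (FreeAbelianGroup.of f)) +
    hC Y V Z m (((chD Y V m).app (op Z)).hom (FreeAbelianGroup.of f)) = FreeAbelianGroup.of f
  rw [FreeAbelianGroup.lift_apply_of, chD_of, chD_of, map_sum, Fin.sum_univ_succ, add_assoc,
    ← Finset.sum_add_distrib]
  have h0 : hGen Y V f ≫ (GV Y V).map (face (m + 1) 0).op = f :=
    hom_ext (Quiver.Hom.unop_inj (face_zero_cons (n := Z.base.unop) (m := m + 1) (f.base.unop : ix (m + 1) ⟶ WithInitial.of Z.base.unop)))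
  have h1 : ∀ i : Fin (m + 1), hGen Y V f ≫ (GV Y V).map (face (m + 1) i.succ).op =
      hGen Y V (f ≫ (GV Y V).map (face m i).op) := fun i =>
    hom_ext (Quiver.Hom.unop_inj (face_succ_cons (n := Z.base.unop) (m := m) i (f.base.unop : ix (m + 1) ⟶ WithInitial.of Z.base.unop)))
  rw [h0, Finset.sum_eq_zero fun i _ => ?_, add_zero, Fin.val_zero, pow_zero, one_smul]
  rw [map_zsmul, show hC Y V Z m (FreeAbelianGroup.of (f ≫ (GV Y V).map (face m i).op)) = _ from
    FreeAbelianGroup.lift_apply_of _ _, h1 i, Fin.val_succ, pow_succ, mul_neg_one, neg_smul]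
  exact neg_add_cancel _

/-- The rows of an injective presheaf are injective at the start. -/
theorem eq_zero_of_altD (M : PP Y) (x : (row Y ((ran Y).obj M) V).obj (ix 0))
    (hx : (altD (row Y ((ran Y).obj M) V) 0).hom x = 0) : x = 0 := by
  obtain ⟨ψ, rfl⟩ := (ranEquiv Y M _).surjective x
  rw [← ranEquiv_chD] at hx
  have hψ : chD Y V 0 ≫ ψ = 0 := (ranEquiv Y M _).injective (hx.trans (map_zero _).symm)
  suffices h : ψ = 0 by rw [h]; exact map_zero _
  refine NatTrans.ext (funext fun Z => AddCommGrpCat.hom_ext (AddMonoidHom.ext fun a => ?_))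
  rw [← homotopy_zero Y V Z.unop a]
  exact ConcreteCategory.congr_hom (congr_app hψ Z) _

/-- The rows of an injective presheaf are exact. -/
theorem exists_altD_eq (M : PP Y) [Injective M] (m : ℕ) (x : (row Y ((ran Y).obj M) V).obj (ix (m + 1)))
    (hx : (altD (row Y ((ran Y).obj M) V) (m + 1)).hom x = 0) :
    ∃ y, (altD (row Y ((ran Y).obj M) V) m).hom y = x := by
  obtain ⟨ψ, rfl⟩ := (ranEquiv Y M _).surjective x
  rw [← ranEquiv_chD] at hx
  have hψ : chD Y V (m + 1) ≫ ψ = 0 := (ranEquiv Y M _).injective (hx.trans (map_zero _).symm)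
  let d := chD Y V m
  have hk : kernel.ι d ≫ ψ = 0 := by
    refine NatTrans.ext (funext fun Z => AddCommGrpCat.hom_ext (AddMonoidHom.ext fun a => ?_))
    show (ψ.app Z).hom (((kernel.ι d).app Z).hom a) = 0
    have hb : (d.app Z).hom (((kernel.ι d).app Z).hom a) = 0 :=
      ConcreteCategory.congr_hom (congr_app (kernel.condition d) Z) a
    rw [← homotopy_succ Y V Z.unop m (((kernel.ι d).app Z).hom a)]
    rw [map_add, hb, map_zero, map_zero, add_zero]
    exact ConcreteCategory.congr_hom (congr_app hψ Z) _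
  let χ : Abelian.coimage d ⟶ M := cokernel.desc (kernel.ι d) ψ hk
  haveI : Mono (Abelian.factorThruCoimage d) := inferInstance
  refine ⟨ranEquiv Y M _ (Injective.factorThru χ (Abelian.factorThruCoimage d)), ?_⟩
  rw [← ranEquiv_chD]
  congr 1
  rw [show chD Y V m = Abelian.coimage.π d ≫ Abelian.factorThruCoimage d from (Abelian.coimage.fac d).symm,
    Category.assoc, Injective.comp_factorThru]
  exact cokernel.π_desc _ _ _

/-- Sections of injective presheaves extend. -/
theorem surjective_map_of_mono (M : PP Y) [Injective M] {X X' : ∫ᶜ (F Y)} (g : X ⟶ X') [Mono g] :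
    Function.Surjective (((ran Y).obj M).map g.op).hom := by
  intro v
  obtain ⟨ψ, rfl⟩ := (ranEquiv Y M X).surjective v
  haveI : ∀ Z, Mono ((FPmap Y g).app Z) := fun Z => by
    rw [AddCommGrpCat.mono_iff_injective]
    show Function.Injective (FreeAbelianGroup.map _)
    intro a b h
    have hinj : Function.Injective (fun f : (FibDesc.incl (F Y)).obj Z.unop ⟶ X => f ≫ g) :=
      fun a b h => (cancel_mono g).1 h
    rcases isEmpty_or_nonempty ((FibDesc.incl (F Y)).obj Z.unop ⟶ X) with he | hne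
    · have he' : ∀ c : FreeAbelianGroup ((FibDesc.incl (F Y)).obj Z.unop ⟶ X), c = 0 := fun c =>
        DFunLike.congr_fun (FreeAbelianGroup.lift_ext (AddMonoidHom.id _) 0 fun f => isEmptyElim f) c
      exact (he' a).trans (he' b).symm
    · obtain ⟨l, hl⟩ := hinj.hasLeftInverse
      have e : (FreeAbelianGroup.map l).comp (FreeAbelianGroup.map fun f => f ≫ g) =
          AddMonoidHom.id (FreeAbelianGroup ((FibDesc.incl (F Y)).obj Z.unop ⟶ X)) :=
        FreeAbelianGroup.lift_ext _ _ fun f => by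
          show FreeAbelianGroup.map l (FreeAbelianGroup.map _ (FreeAbelianGroup.of f)) = FreeAbelianGroup.of f
          rw [FreeAbelianGroup.map_of_apply, FreeAbelianGroup.map_of_apply, hl]
      exact (DFunLike.congr_fun e a).symm.trans ((congrArg (FreeAbelianGroup.map l) h).trans (DFunLike.congr_fun e b))
  haveI : Mono (FPmap Y g) := NatTrans.mono_of_mono_app _
  refine ⟨ranEquiv Y M X' (Injective.factorThru ψ (FPmap Y g)), ?_⟩
  rw [← ranEquiv_nat, Injective.comp_factorThru]

end Groth.Agent.H15Site.DescSimp
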