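import Groth.Agent.H15Site.DescSimp.Index
import Groth.Agent.H15Site.SplitDescent
import Groth.Agent.H15Site.OpensRestrict
import Groth.Agent.H15Site.ClosedPushAb
import Groth.Agent.H10Coh.SheafH

/-!
# Levels of sheaves on the total site of an augmented simplicial space
-/

set_option autoImplicit false
set_option linter.style.haveILetI false
set_option linter.unusedSectionVars false
set_option backward.isDefEq.respectTransparency false
set_option backward.isDefEq.respectTransparency.types false

universe u

open CategoryTheory CategoryTheory.Limits Opposite Pseudofunctor Pseudofunctor.CoGrothendieck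
open TopologicalSpace Groth.Agent.H15Site.OpensFib

noncomputable section

namespace Groth.Agent.H15Site.DescSimp

attribute [local instance 10000] SiteInst.hasSheafifySite SiteInst.hasWeakSheafifySite
  SiteInst.hasExtSite SiteInst.enoughInjSite

abbrev Ab := AddCommGrpCat.{u}

variable (Y : K Δ ⥤ TopCat.{u})

/-- Abelian sheaves on the plain total site. -/
abbrev P₀ := SplitDescent.P₀ Y

/-- Abelian sheaves on the augmented total site. -/
abbrev TA := SplitDescent.T Y

/-- The base space. -/
abbrev base : TopCat.{u} := Y.obj (FibDesc.bot Δ)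

instance isContinuous_ιA (k : K Δ) :
    (ι (F Y) k).IsContinuous (Opens.grothendieckTopology (Y.obj k)) (FibDesc.totAug (F Y) (J Y)) :=
  Groth.Agent.H14FibSite.isContinuous_ι (isPreFibSite Y) k

instance isContinuous_ιP (n : Δᵒᵖ) :
    (ι (FibDesc.part (F Y)) n).IsContinuous
      (Opens.grothendieckTopology (Y.obj ((FibDesc.toAug Δ).obj n))) (FibDesc.totPart (F Y) (J Y)) :=
  Groth.Agent.H14FibSite.isContinuous_ι (isPreFibSite_part Y) n

instance isCocontinuous_ιP (n : Δᵒᵖ) :
    (ι (FibDesc.part (F Y)) n).IsCocontinuous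
      (Opens.grothendieckTopology (Y.obj ((FibDesc.toAug Δ).obj n))) (FibDesc.totPart (F Y) (J Y)) where
  cover_lift {U S} hS := by
    rw [Groth.Agent.H14FibSite.mem_total_iff (isPreFibSite_part Y)] at hS
    exact hS

/-- Restriction to a level of the augmented site. -/
abbrev restrA (k : K Δ) : TA Y ⥤ CohTop.Ab (Y.obj k) :=
  (ι (F Y) k).sheafPushforwardContinuous Ab.{u} (Opens.grothendieckTopology (Y.obj k))
    (FibDesc.totAug (F Y) (J Y))

/-- Restriction to a level of the plain site. -/
abbrev restrP (n : Δᵒᵖ) : P₀ Y ⥤ CohTop.Ab (Y.obj ((FibDesc.toAug Δ).obj n)) :=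
  (ι (FibDesc.part (F Y)) n).sheafPushforwardContinuous Ab.{u}
    (Opens.grothendieckTopology (Y.obj ((FibDesc.toAug Δ).obj n))) (FibDesc.totPart (F Y) (J Y))

/-- The levels of a sheaf on the plain site, base included. -/
abbrev Col (k : K Δ) : P₀ Y ⥤ CohTop.Ab (Y.obj k) := OpensRestrict.ranS Y ⋙ restrA Y k

instance : PreservesFiniteLimits (OpensRestrict.ranS Y) :=
  haveI : PreservesLimitsOfSize.{0, 0} (OpensRestrict.ranS Y) :=
    ((FibDesc.incl (F Y)).sheafAdjunctionCocontinuous Ab.{u} (FibDesc.totPart (F Y) (J Y))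
      (FibDesc.totAug (F Y) (J Y))).rightAdjoint_preservesLimits
  PreservesLimitsOfSize.preservesFiniteLimits _

instance (k : K Δ) : PreservesFiniteLimits (restrA Y k) :=
  haveI : PreservesLimitsOfSize.{0, 0} (restrA Y k) :=
    ((ι (F Y) k).sheafAdjunctionContinuous Ab.{u} (Opens.grothendieckTopology (Y.obj k))
      (FibDesc.totAug (F Y) (J Y))).rightAdjoint_preservesLimits
  PreservesLimitsOfSize.preservesFiniteLimits _

instance (k : K Δ) : PreservesFiniteLimits (Col Y k) :=
  comp_preservesFiniteLimits (OpensRestrict.ranS Y) (restrA Y k)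

instance (k : K Δ) : (Col Y k).Additive := Functor.additive_of_preserves_binary_products _

instance (n : Δᵒᵖ) : PreservesFiniteLimits (restrP Y n) :=
  haveI : PreservesLimitsOfSize.{0, 0} (restrP Y n) :=
    ((ι (FibDesc.part (F Y)) n).sheafAdjunctionContinuous Ab.{u}
      (Opens.grothendieckTopology (Y.obj ((FibDesc.toAug Δ).obj n)))
      (FibDesc.totPart (F Y) (J Y))).rightAdjoint_preservesLimits
  PreservesLimitsOfSize.preservesFiniteLimits _

instance (n : Δᵒᵖ) : PreservesFiniteColimits (restrP Y n) :=
  haveI : PreservesColimitsOfSize.{0, 0} (restrP Y n) :=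
    ((ι (FibDesc.part (F Y)) n).sheafAdjunctionCocontinuous Ab.{u}
      (Opens.grothendieckTopology (Y.obj ((FibDesc.toAug Δ).obj n)))
      (FibDesc.totPart (F Y) (J Y))).leftAdjoint_preservesColimits
  PreservesColimitsOfSize.preservesFiniteColimits _

instance faithful_incl : (FibDesc.incl (F Y)).Faithful where
  map_injective {A B} := fun {f g} e => part_hom_ext
    ((FibDesc.toAug Δ).map_injective (congrArg CoGrothendieck.Hom.base e))

instance full_incl : (FibDesc.incl (F Y)).Full where
  map_surjective {A B} f := by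
    obtain ⟨b, hb⟩ := (FibDesc.toAug Δ).map_surjective f.base
    refine ⟨OpensRestrict.mkP A B b (fun x hx => ?_), hom_ext hb⟩
    rw [hb]
    exact le_of_hom f hx

/-- On the plain indices the levels are the restrictions. -/
def χ (n : Δᵒᵖ) : Col Y ((FibDesc.toAug Δ).obj n) ⟶ restrP Y n where
  app M := ⟨{ app := fun U => ((FibDesc.incl (F Y)).op.ranCounit.app M.obj).app
                (op ((ι (FibDesc.part (F Y)) n).obj U.unop))
              naturality := fun U V g => by
                refine Eq.trans ?_ (((FibDesc.incl (F Y)).op.ranCounit.app M.obj).naturality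
                  ((ι (FibDesc.part (F Y)) n).map g.unop).op)
                refine congrArg (fun (a : (ι (F Y) ((FibDesc.toAug Δ).obj n)).obj V.unop ⟶ (ι (F Y) ((FibDesc.toAug Δ).obj n)).obj U.unop) => ((FibDesc.incl (F Y)).op.ran.obj M.obj).map a.op ≫ _) ?_
                exact hom_ext ((FibDesc.toAug Δ).map_id n).symm }⟩
  naturality M M' g := by
    ext U : 3
    exact congr_app ((FibDesc.incl (F Y)).op.ranCounit.naturality g.hom)
      (op ((ι (FibDesc.part (F Y)) n).obj U.unop))

instance isIso_χ (n : Δᵒᵖ) : IsIso (χ Y n) := by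
  rw [NatTrans.isIso_iff_isIso_app]
  intro M
  rw [← isIso_iff_of_reflects_iso _ (sheafToPresheaf _ _), NatTrans.isIso_iff_isIso_app]
  intro U
  change IsIso (((FibDesc.incl (F Y)).op.ranCounit.app M.obj).app _)
  infer_instance

/-- The plain levels as restrictions. -/
def colIsoP (n : Δᵒᵖ) : Col Y ((FibDesc.toAug Δ).obj n) ≅ restrP Y n := asIso (χ Y n)

theorem exact_Col (n : Δᵒᵖ) :
    PreservesFiniteLimits (Col Y ((FibDesc.toAug Δ).obj n)) ∧
      PreservesFiniteColimits (Col Y ((FibDesc.toAug Δ).obj n)) :=
  ⟨inferInstance, preservesFiniteColimits_of_natIso (colIsoP Y n).symm⟩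

variable {Y}

/-- The structure maps of a sheaf on the augmented site. -/
def str {k l : K Δ} (b : k ⟶ l) : restrA Y l ⟶ restrA Y k ⋙ CohTop.push (Y.map b) where
  app T := ⟨{ app := fun U => T.obj.map
                (show (⟨k, (Opens.map (Y.map b)).obj U.unop⟩ : ∫ᶜ (F Y)) ⟶ ⟨l, U.unop⟩ from
                  mkHom _ _ b (fun _ hx => hx)).op
              naturality := fun U V g => by
                refine (T.obj.map_comp _ _).symm.trans (Eq.trans ?_ (T.obj.map_comp _ _))
                exact congrArg _ (Quiver.Hom.unop_inj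
                  (hom_ext ((Category.comp_id _).trans (Category.id_comp _).symm))) }⟩
  naturality T T' g := by
    refine ObjectProperty.hom_ext _ (NatTrans.ext (funext fun U => ?_))
    exact (g.hom.naturality _).symm

variable (Y)

/-- The rows as sheaves on the base. -/
def rowS (T : TA Y) : WithInitial Δ ⥤ CohTop.Ab (base Y) where
  obj k := (CohTop.push (tB Y (op k))).obj ((restrA Y (op k)).obj T)
  map {k l} g := ⟨{ app := fun V => T.obj.map ((GV Y V.unop).map g.op).op
                    naturality := fun V W r => by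
                      refine (T.obj.map_comp _ _).symm.trans (Eq.trans ?_ (T.obj.map_comp _ _))
                      exact congrArg _ (Quiver.Hom.unop_inj
                        (hom_ext ((Category.comp_id _).trans (Category.id_comp _).symm))) }⟩
  map_id k := by
    refine ObjectProperty.hom_ext _ (NatTrans.ext (funext fun V => ?_))
    refine (congrArg T.obj.map (show ((GV Y V.unop).map (𝟙 k : k ⟶ k).op).op = 𝟙 _ from ?_)).trans
      (T.obj.map_id _)
    exact congrArg Quiver.Hom.op ((GV Y V.unop).map_id (op k))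
  map_comp {k l m} g g' := by
    refine ObjectProperty.hom_ext _ (NatTrans.ext (funext fun V => ?_))
    refine (congrArg T.obj.map (show ((GV Y V.unop).map (g ≫ g').op).op =
      ((GV Y V.unop).map g.op).op ≫ ((GV Y V.unop).map g'.op).op from ?_)).trans (T.obj.map_comp _ _)
    exact congrArg Quiver.Hom.op ((GV Y V.unop).map_comp g'.op g.op)

variable {Y}

/-- The differential of the rows. -/
def rowD (T : TA Y) (m : ℕ) : (rowS Y T).obj (ix m) ⟶ (rowS Y T).obj (ix (m + 1)) :=
  ∑ i : Fin (m + 1), ((-1 : ℤ) ^ (i : ℕ)) • (rowS Y T).map (face m i)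

lemma rowD_app (T : TA Y) (m : ℕ) (V : Opens (base Y)) :
    (rowD T m).hom.app (op V) = altD (row Y T.obj V) m := by
  let ev := sheafToPresheaf (Opens.grothendieckTopology (base Y)) Ab.{u} ⋙
    (evaluation (Opens (base Y))ᵒᵖ Ab.{u}).obj (op V)
  show ev.map (rowD T m) = _
  rw [rowD, Functor.map_sum]
  exact Finset.sum_congr rfl fun i _ => ev.map_zsmul

theorem rowD_rowD (T : TA Y) (m : ℕ) : rowD T m ≫ rowD T (m + 1) = 0 := by
  refine ObjectProperty.hom_ext _ (NatTrans.ext (funext fun V => ?_))
  show (rowD T m).hom.app V ≫ (rowD T (m + 1)).hom.app V = 0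
  rw [rowD_app T m V.unop, rowD_app T (m + 1) V.unop]
  exact altD_altD _ m

lemma rowS_map_nat {T T' : TA Y} (g : T ⟶ T') {k l : WithInitial Δ} (b : k ⟶ l) :
    (CohTop.push (tB Y (op k))).map ((restrA Y (op k)).map g) ≫ (rowS Y T').map b =
      (rowS Y T).map b ≫ (CohTop.push (tB Y (op l))).map ((restrA Y (op l)).map g) := by
  refine ObjectProperty.hom_ext _ (NatTrans.ext (funext fun V => ?_))
  exact (g.hom.naturality _).symm

variable (Y) in
/-- The rows as functors. -/
abbrev RowF (m : ℕ) : P₀ Y ⥤ CohTop.Ab (base Y) :=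
  Col Y (op (ix m)) ⋙ CohTop.push (tB Y (op (ix m)))

variable (Y) in
/-- The differential, natural in the sheaf. -/
def rowNat (m : ℕ) : RowF Y m ⟶ RowF Y (m + 1) where
  app M := rowD ((OpensRestrict.ranS Y).obj M) m
  naturality M M' g := by
    show _ ≫ rowD _ m = rowD _ m ≫ _
    rw [rowD, rowD, Preadditive.comp_sum, Preadditive.sum_comp]
    refine Finset.sum_congr rfl fun i _ => ?_
    rw [Preadditive.comp_zsmul, Preadditive.zsmul_comp]
    exact congrArg _ (rowS_map_nat ((OpensRestrict.ranS Y).map g) (face m i))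

theorem rowNat_rowNat (m : ℕ) : rowNat Y m ≫ rowNat Y (m + 1) = 0 := by
  ext M : 2
  exact rowD_rowD _ m

/-- An injective sheaf is injective as a presheaf. -/
theorem injective_obj (M : P₀ Y) [Injective M] : Injective M.obj :=
  haveI : (presheafToSheaf (FibDesc.totPart (F Y) (J Y)) Ab.{u}).PreservesMonomorphisms :=
    inferInstance
  Injective.injective_of_adjoint (sheafificationAdjunction (FibDesc.totPart (F Y) (J Y)) Ab.{u}) M

theorem eq_zero_of_rowNat (M : P₀ Y) (V : Opens (base Y))
    (x : ((RowF Y 0).obj M).obj.obj (op V))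
    (hx : (((rowNat Y 0).app M).hom.app (op V)).hom x = 0) : x = 0 := by
  rw [show ((rowNat Y 0).app M).hom.app (op V) = _ from rowD_app _ 0 V] at hx
  exact eq_zero_of_altD Y V M.obj x hx

theorem exists_rowNat_eq (M : P₀ Y) [Injective M] (V : Opens (base Y)) (m : ℕ)
    (x : ((RowF Y (m + 1)).obj M).obj.obj (op V))
    (hx : (((rowNat Y (m + 1)).app M).hom.app (op V)).hom x = 0) :
    ∃ y, (((rowNat Y m).app M).hom.app (op V)).hom y = x := by
  haveI := injective_obj M
  rw [show ((rowNat Y (m + 1)).app M).hom.app (op V) = _ from rowD_app _ (m + 1) V] at hx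
  obtain ⟨y, hy⟩ := exists_altD_eq Y V M.obj m x hx
  refine ⟨y, ?_⟩
  rw [show ((rowNat Y m).app M).hom.app (op V) = _ from rowD_app _ m V]
  exact hy

/-- Levels of injective sheaves are flasque. -/
theorem flasque_Col (M : P₀ Y) [Injective M] (k : K Δ) : H10Coh.Flasque ((Col Y k).obj M) := by
  intro U V h s
  haveI := injective_obj M
  let g : (ι (F Y) k).obj V ⟶ (ι (F Y) k).obj U := (ι (F Y) k).map (show (show Opens (Y.obj k) from V) ⟶ U from homOfLE h)
  have hb : g.base = 𝟙 k := rfl
  haveI : Mono g := ⟨fun a b e => hom_ext (by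
    have h1 := congrArg CoGrothendieck.Hom.base e
    change a.base ≫ g.base = b.base ≫ g.base at h1
    rw [hb] at h1
    exact (Category.comp_id _).symm.trans (h1.trans (Category.comp_id _)))⟩
  exact surjective_map_of_mono Y M.obj g s

end Groth.Agent.H15Site.DescSimp
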