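import Groth.Agent.H15Site.DescSimp.Level
import Mathlib.CategoryTheory.Adjunction.Mates
import Mathlib.CategoryTheory.Adjunction.Unique

/-!
# Levels of inverse images along an augmentation
-/

set_option autoImplicit false
set_option linter.style.haveILetI false
set_option linter.unusedSectionVars false
set_option backward.isDefEq.respectTransparency false
set_option backward.isDefEq.respectTransparency.types false

universe u

open CategoryTheory CategoryTheory.Limits Opposite Pseudofunctor Pseudofunctor.CoGrothendieck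
open TopologicalSpace Groth.Agent.H15Site.OpensFib

noncomputable section

namespace Groth.Agent.H15Site.DescSimp

attribute [local instance 10000] SiteInst.hasSheafifySite SiteInst.hasWeakSheafifySite
  SiteInst.hasExtSite SiteInst.enoughInjSite

variable (Y : K Δ ⥤ TopCat.{u})

/-- Inverse image to the plain total site. -/
abbrev θP : CohTop.Ab (base Y) ⥤ P₀ Y := OpensRestrict.pull Y

/-- Direct image to the base. -/
abbrev θS : P₀ Y ⥤ CohTop.Ab (base Y) := OpensRestrict.push Y

/-- The adjunction. -/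
abbrev θAdj : θP Y ⊣ θS Y := OpensRestrict.adj Y

/-- The adjunct of the comparison at a level. -/
def toLevel (k : K Δ) : 𝟭 (CohTop.Ab (base Y)) ⟶ (θP Y ⋙ Col Y k) ⋙ CohTop.push (tB Y k) :=
  (θAdj Y).unit ≫ Functor.whiskerLeft (θP Y ⋙ OpensRestrict.ranS Y)
    (str ((botTerminal (D := Δ)).from k))

/-- The comparison at a level. -/
def eta (k : K Δ) : CohTop.pull (tB Y k) ⟶ θP Y ⋙ Col Y k where
  app F := ((TopCat.Sheaf.pullbackPushforwardAdjunction Ab.{u} (tB Y k)).homEquiv F _).symm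
    ((toLevel Y k).app F)
  naturality F G g := by
    rw [← Adjunction.homEquiv_naturality_left_symm, ← Adjunction.homEquiv_naturality_right_symm]
    exact congrArg _ ((toLevel Y k).naturality g)

/-- The coextension from a level. -/
abbrev coextP (n : Δᵒᵖ) : CohTop.Ab (Y.obj ((FibDesc.toAug Δ).obj n)) ⥤ P₀ Y :=
  (ι (FibDesc.part (F Y)) n).sheafPushforwardCocontinuous Ab.{u}
    (Opens.grothendieckTopology (Y.obj ((FibDesc.toAug Δ).obj n))) (FibDesc.totPart (F Y) (J Y))

/-- Restriction to a level is left adjoint to coextension. -/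
abbrev adjP (n : Δᵒᵖ) : restrP Y n ⊣ coextP Y n :=
  (ι (FibDesc.part (F Y)) n).sheafAdjunctionCocontinuous Ab.{u}
    (Opens.grothendieckTopology (Y.obj ((FibDesc.toAug Δ).obj n))) (FibDesc.totPart (F Y) (J Y))

/-- The value of the direct image of a coextension. -/
def ψ (n : Δᵒᵖ) : coextP Y n ⋙ θS Y ⟶ CohTop.push (tB Y ((FibDesc.toAug Δ).obj n)) :=
  Functor.whiskerLeft (coextP Y n)
      (Functor.whiskerLeft (OpensRestrict.ranS Y) (str ((botTerminal (D := Δ)).from ((FibDesc.toAug Δ).obj n))) ≫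
        Functor.whiskerRight (χ Y n) (CohTop.push (tB Y ((FibDesc.toAug Δ).obj n)))) ≫
    Functor.whiskerRight (adjP Y n).counit (CohTop.push (tB Y ((FibDesc.toAug Δ).obj n)))

theorem isIso_ran_comp {A B C : Type u} [SmallCategory A] [SmallCategory B] [SmallCategory C]
    (p : A ⥤ B) (q : B ⥤ C) (G : A ⥤ Ab.{u}) (a : A) {X : C} (g : X ⟶ q.obj (p.obj a))
    (hA : IsInitial (StructuredArrow.mk (Y := a) g : StructuredArrow X (p ⋙ q))) :
    IsIso ((q.ran.obj (p.ran.obj G)).map g ≫ (q.ranCounit.app (p.ran.obj G)).app (p.obj a) ≫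
      (p.ranCounit.app G).app a) := by
  let adjC := (q.ranAdjunction Ab.{u}).comp (p.ranAdjunction Ab.{u})
  let adjL := (p ⋙ q).ranAdjunction Ab.{u}
  let adjL' : (Functor.whiskeringLeft B C Ab.{u}).obj q ⋙ (Functor.whiskeringLeft A B Ab.{u}).obj p ⊣
      (p ⋙ q).ran := adjL
  let e := Adjunction.rightAdjointUniq adjL' adjC
  have h : ((e.hom.app G).app (q.obj (p.obj a))) ≫ ((q.ranCounit.app (p.ran.obj G)).app (p.obj a) ≫
      (p.ranCounit.app G).app a) = ((p ⋙ q).ranCounit.app G).app a := by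
    have := congr_app (Adjunction.rightAdjointUniq_hom_app_counit adjL' adjC G) a
    rw [Adjunction.comp_counit_app] at this
    simp only [Functor.ranAdjunction_counit] at this
    refine Eq.trans ?_ (this.trans ?_)
    · rfl
    · exact congrArg (fun k : _ ⟶ G => k.app a)
        (congr_app (Functor.ranAdjunction_counit (p ⋙ q) (H := Ab.{u})) G)
  have hiso := IsLimit.isIso_π_app_of_isInitial
    ((p ⋙ q).isPointwiseRightKanExtensionRanCounit G X) _ hA
  change IsIso (((p ⋙ q).ran.obj G).map g ≫ ((p ⋙ q).ranCounit.app G).app a) at hiso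
  rw [← h, ← Category.assoc, (e.hom.app G).naturality g, Category.assoc] at hiso
  exact @IsIso.of_isIso_comp_left _ _ _ _ _ ((e.hom.app G).app X) _ _ hiso

instance isIso_ψ (n : Δᵒᵖ) : IsIso (ψ Y n) := by
  rw [NatTrans.isIso_iff_isIso_app]
  intro G
  rw [← isIso_iff_of_reflects_iso _ (sheafToPresheaf _ _), NatTrans.isIso_iff_isIso_app]
  intro V
  let k := (FibDesc.toAug Δ).obj n
  let p : (Opens (Y.obj k))ᵒᵖ ⥤ (∫ᶜ (FibDesc.part (F Y)))ᵒᵖ := (ι (FibDesc.part (F Y)) n).op
  let q : (∫ᶜ (FibDesc.part (F Y)))ᵒᵖ ⥤ (∫ᶜ (F Y))ᵒᵖ := (FibDesc.incl (F Y)).op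
  let a : (Opens (Y.obj k))ᵒᵖ := op ((Opens.map (tB Y k)).obj V.unop)
  let g : op ((FibDesc.eps (F Y)).obj V.unop) ⟶ q.obj (p.obj a) :=
    (show (⟨k, (Opens.map (tB Y k)).obj V.unop⟩ : ∫ᶜ (F Y)) ⟶ ⟨FibDesc.bot Δ, V.unop⟩ from
      mkHom _ _ ((botTerminal (D := Δ)).from k) (fun _ hx => hx)).op
  have hA : IsInitial (StructuredArrow.mk (Y := a) g : StructuredArrow _ (p ⋙ q)) := by
    refine IsInitial.ofUniqueHom (fun Z => ?_) (fun Z m => ?_)
    · refine StructuredArrow.homMk (homOfLE ?_).op (Quiver.Hom.unop_inj (hom_ext (bot_ext _ _)))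
      intro x hx
      have h1 := le_of_hom Z.hom.unop hx
      change Y.map Z.hom.unop.base x ∈ V.unop at h1
      rwa [show Z.hom.unop.base = (botTerminal (D := Δ)).from k from bot_ext _ _] at h1
    · exact StructuredArrow.ext _ _ (Subsingleton.elim _ _)
  have := isIso_ran_comp p q G.obj a g hA
  change IsIso (((((OpensRestrict.ranS Y).obj ((coextP Y n).obj G)).obj.map g) ≫
    ((FibDesc.incl (F Y)).op.ranCounit.app ((coextP Y n).obj G).obj).app (p.obj a)) ≫
    ((adjP Y n).counit.app G).hom.app a)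
  rw [Functor.sheafAdjunctionCocontinuous_counit_app_hom, Functor.ranAdjunction_counit, Category.assoc]
  exact this

theorem eta_χ (n : Δᵒᵖ) (F : CohTop.Ab (base Y)) :
    (eta Y ((FibDesc.toAug Δ).obj n)).app F ≫ (χ Y n).app ((θP Y).obj F) =
      ((conjugateEquiv ((θAdj Y).comp (adjP Y n))
        (TopCat.Sheaf.pullbackPushforwardAdjunction Ab.{u} (tB Y ((FibDesc.toAug Δ).obj n)))).symm (ψ Y n)).app F := by
  let k := (FibDesc.toAug Δ).obj n
  let aB := TopCat.Sheaf.pullbackPushforwardAdjunction Ab.{u} (tB Y k)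
  let α := (conjugateEquiv ((θAdj Y).comp (adjP Y n)) aB).symm (ψ Y n)
  have h := unit_conjugateEquiv ((θAdj Y).comp (adjP Y n)) aB α F
  rw [show conjugateEquiv ((θAdj Y).comp (adjP Y n)) aB α = ψ Y n from
    Equiv.apply_symm_apply (conjugateEquiv ((θAdj Y).comp (adjP Y n)) aB) (ψ Y n)] at h
  apply (aB.homEquiv F ((θP Y ⋙ restrP Y n).obj F)).injective
  refine Eq.trans ?_ (h.trans (aB.homEquiv_unit _ _ _).symm)
  refine (aB.homEquiv_naturality_right _ _).trans ?_
  refine (congrArg (· ≫ _) (Equiv.apply_symm_apply (aB.homEquiv _ _) ((toLevel Y k).app F))).trans ?_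
  rw [Adjunction.comp_unit_app, Category.assoc]
  show ((θAdj Y).unit.app F ≫ _) ≫ _ = _
  rw [Category.assoc]
  congr 1
  let M := (θP Y).obj F
  show (str ((botTerminal (D := Δ)).from k)).app ((OpensRestrict.ranS Y).obj M) ≫
      (CohTop.push (tB Y k)).map ((χ Y n).app M) =
    (θS Y).map ((adjP Y n).unit.app M) ≫ (ψ Y n).app ((restrP Y n).obj M)
  have hn := (Functor.whiskerLeft (OpensRestrict.ranS Y) (str ((botTerminal (D := Δ)).from k)) ≫
    Functor.whiskerRight (χ Y n) (CohTop.push (tB Y k))).naturality ((adjP Y n).unit.app M)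
  refine Eq.trans ?_ (Category.assoc _ _ _)
  refine Eq.trans ?_ (congrArg (· ≫ _) hn.symm)
  refine Eq.trans (Category.comp_id _).symm ?_
  refine Eq.trans ?_ (Category.assoc _ _ _).symm
  congr 1
  show 𝟙 _ = (CohTop.push (tB Y k)).map ((restrP Y n).map ((adjP Y n).unit.app M)) ≫
    (CohTop.push (tB Y k)).map ((adjP Y n).counit.app ((restrP Y n).obj M))
  rw [← Functor.map_comp]
  exact ((CohTop.push (tB Y k)).map_id _).symm.trans
    (congrArg _ ((adjP Y n).left_triangle_components M).symm)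

instance isIso_eta (n : Δᵒᵖ) : IsIso (eta Y ((FibDesc.toAug Δ).obj n)) := by
  rw [NatTrans.isIso_iff_isIso_app]
  intro F
  haveI : IsIso ((eta Y ((FibDesc.toAug Δ).obj n)).app F ≫ (χ Y n).app ((θP Y).obj F)) := by
    rw [eta_χ]
    haveI := conjugateEquiv_symm_iso ((θAdj Y).comp (adjP Y n))
      (TopCat.Sheaf.pullbackPushforwardAdjunction Ab.{u} (tB Y ((FibDesc.toAug Δ).obj n))) (ψ Y n)
    exact (NatTrans.isIso_iff_isIso_app _).1 this F
  exact IsIso.of_isIso_comp_right _ ((χ Y n).app ((θP Y).obj F))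

/-- The levels of an inverse image. -/
def etaIso (n : Δᵒᵖ) : CohTop.pull (tB Y ((FibDesc.toAug Δ).obj n)) ≅
    θP Y ⋙ Col Y ((FibDesc.toAug Δ).obj n) :=
  asIso (eta Y ((FibDesc.toAug Δ).obj n))

end Groth.Agent.H15Site.DescSimp
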