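import Groth.Agent.H15Site.DescSimp.Fibre

/-!
# The unit of descent in degree zero
-/

set_option autoImplicit false
set_option linter.style.haveILetI false
set_option linter.unusedSectionVars false
set_option backward.isDefEq.respectTransparency false
set_option backward.isDefEq.respectTransparency.types false

universe u

open CategoryTheory CategoryTheory.Limits Opposite Pseudofunctor Pseudofunctor.CoGrothendieck
open TopologicalSpace Groth.Agent.H15Site.OpensFib Groth.Agent.H15Site.DescTop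

noncomputable section

namespace Groth.Agent.H15Site.DescSimp

attribute [local instance 10000] SiteInst.hasSheafifySite SiteInst.hasWeakSheafifySite
  SiteInst.hasExtSite SiteInst.enoughInjSite

lemma push_eqToHom {S : TopCat.{u}} {p : S ⟶ S} (h : p = 𝟙 S) (M : CohTop.Ab S) (V : Opens S) :
    ((eqToHom (congrArg CohTop.push h).symm).app M).hom.app (op V) =
      M.obj.map (eqToHom (show (Opens.map p).obj V = V by subst h; rfl)).op := by
  subst h
  simp
  exact (M.obj.map_id _).symm

variable {Y : K Δ ⥤ TopCat.{u}} (F : CohTop.Ab (base Y)) (s : base Y)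

lemma row0Iso_inv_app (P : P₀ Y) (V : Opens (base Y)) (y : ((θS Y).obj P).obj.obj (op V)) :
    ((row0Iso Y).inv.app P).hom.app (op V) y =
      ((Col Y (FibDesc.bot Δ)).obj P).obj.map (eqToHom (show (Opens.map (tB Y (FibDesc.bot Δ))).obj V = V by
        rw [show tB Y (FibDesc.bot Δ) = 𝟙 (base Y) from (congrArg Y.map (bot_ext _ _)).trans (Y.map_id _)]
        rfl)).op y := by
  exact ConcreteCategory.congr_hom (push_eqToHom ((congrArg Y.map (bot_ext _ _)).trans (Y.map_id _))
    ((Col Y (FibDesc.bot Δ)).obj P) V) y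

/-- The level `m + 1`. -/
abbrev lv (m : ℕ) : K Δ := op (ix (m + 1))

/-- A row value in terms of the inverse image. -/
def fromRow (m : ℕ) (V : Opens (base Y)) :
    ((RowF Y (m + 1)).obj ((θP Y).obj F)).obj.obj (op V) ⟶
      ((CohTop.pull (tB Y (lv m))).obj F).obj.obj (op ((Opens.map (tB Y (lv m))).obj V)) :=
  ((etaIso Y (op (SimplexCategory.mk m))).inv.app F).hom.app (op ((Opens.map (tB Y (lv m))).obj V))

lemma eta_fromRow (m : ℕ) (V : Opens (base Y)) (x : ((RowF Y (m + 1)).obj ((θP Y).obj F)).obj.obj (op V)) :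
    ((eta Y (lv m)).app F).hom.app _ ((fromRow F m V).hom x) = x :=
  ConcreteCategory.congr_hom
    (congr_app (congrArg (fun φ => φ.hom) ((etaIso Y (op (SimplexCategory.mk m))).inv_hom_id_app F))
      (op ((Opens.map (tB Y (lv m))).obj V))) x

lemma fromRow_eta (m : ℕ) (V : Opens (base Y))
    (u : ((CohTop.pull (tB Y (lv m))).obj F).obj.obj (op ((Opens.map (tB Y (lv m))).obj V))) :
    (fromRow F m V).hom (((eta Y (lv m)).app F).hom.app _ u) = u :=
  ConcreteCategory.congr_hom
    (congr_app (congrArg (fun φ => φ.hom) ((etaIso Y (op (SimplexCategory.mk m))).hom_inv_id_app F))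
      (op ((Opens.map (tB Y (lv m))).obj V))) u

/-- The values of a row on the fibre. -/
def rowEval (m : ℕ) {V : Opens (base Y)} (hV : s ∈ V)
    (x : ((RowF Y (m + 1)).obj ((θP Y).obj F)).obj.obj (op V)) (z : fib Y s (lv m)) : CohTop.stalk F s :=
  fibEval F s hV ((fromRow F m V).hom x) z

lemma rowEval_zero (m : ℕ) {V : Opens (base Y)} (hV : s ∈ V) (z : fib Y s (lv m)) :
    rowEval F s m hV 0 z = 0 := by
  simp [rowEval, fibEval, Etale.secFam, PBC.gm]

lemma rowEval_toLevel (m : ℕ) {V : Opens (base Y)} (hV : s ∈ V) (x : F.obj.obj (op V))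
    (z : fib Y s (lv m)) :
    rowEval F s m hV (((toLevel Y (lv m)).app F).hom.app (op V) x) z = PBC.gm F s hV x := by
  have e : (fromRow F m V).hom (((toLevel Y (lv m)).app F).hom.app (op V) x) =
      (PBC.un F (tB Y (lv m))).hom.app (op V) x := by
    exact (congrArg _ (eta_un F (lv m) x).symm).trans (fromRow_eta F m V _)
  rw [rowEval, e, fibEval]
  have h := Etale.secFam_un (tB Y (lv m)) F ((Opens.map (tB Y (lv m))).obj V) le_rfl x z.1
    (show tB Y (lv m) z.1 ∈ V by rw [z.2]; exact hV)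
  have e2 : ((CohTop.pull (tB Y (lv m))).obj F).obj.map (homOfLE (le_refl ((Opens.map (tB Y (lv m))).obj V))).op
      ((PBC.un F (tB Y (lv m))).hom.app (op V) x) = (PBC.un F (tB Y (lv m))).hom.app (op V) x := by
    exact ConcreteCategory.congr_hom (((CohTop.pull (tB Y (lv m))).obj F).obj.map_id _) _
  rw [e2] at h
  rw [h]
  exact eqToHom_gm F z.2 _ x

theorem eq_zero_of_rowEval (m : ℕ) (hcl : IsClosedMap (tB Y (lv m))) {V : Opens (base Y)} (hV : s ∈ V)
    (x : ((RowF Y (m + 1)).obj ((θP Y).obj F)).obj.obj (op V)) (h : ∀ z, rowEval F s m hV x z = 0) :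
    PBC.gm ((RowF Y (m + 1)).obj ((θP Y).obj F)) s hV x = 0 := by
  obtain ⟨W, i, hW, e⟩ := eq_zero_of_fibEval F s hcl hV _ h
  refine (PBC.gm_res ((RowF Y (m + 1)).obj ((θP Y).obj F)) i s hW x).symm.trans ?_
  refine (congrArg _ ?_).trans (map_zero _)
  rw [← eta_fromRow F m W (((RowF Y (m + 1)).obj ((θP Y).obj F)).obj.map (homOfLE i).op x)]
  refine (congrArg _ ?_).trans (map_zero _)
  refine (ConcreteCategory.congr_hom
    (((etaIso Y (op (SimplexCategory.mk m))).inv.app F).hom.naturality
      ((Opens.map (tB Y (lv m))).map (homOfLE i)).op) x).trans ?_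
  exact e

lemma rowEval_map (m m' : ℕ) (g : ix (m + 1) ⟶ ix (m' + 1)) {V : Opens (base Y)} (hV : s ∈ V)
    (x : ((RowF Y (m + 1)).obj ((θP Y).obj F)).obj.obj (op V)) (z : fib Y s (lv m')) :
    rowEval F s m' hV (((rowS Y ((OpensRestrict.ranS Y).obj ((θP Y).obj F))).map g).hom.app (op V) x) z =
      rowEval F s m hV x (fmap Y s g.op z) := by
  let T := (OpensRestrict.ranS Y).obj ((θP Y).obj F)
  have hh : Y.map g.op ≫ tB Y (lv m) = tB Y (lv m') := by
    ext y
    exact tB_apply Y g.op y
  have hle : (Opens.map (tB Y (lv m'))).obj V ≤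
      (Opens.map (Y.map g.op)).obj ((Opens.map (tB Y (lv m))).obj V) := fun y hy => by
    show tB Y (lv m) (Y.map g.op y) ∈ V
    rw [tB_apply]
    exact hy
  let v := (fromRow F m V).hom x
  let φ := PullCoh.φ F (Y.map g.op) (tB Y (lv m)) (tB Y (lv m')) hh
  have e1 : ((str g.op).app T).hom.app (op ((Opens.map (tB Y (lv m))).obj V)) x =
      ((eta Y (lv m')).app F).hom.app (op ((Opens.map (Y.map g.op)).obj ((Opens.map (tB Y (lv m))).obj V)))
        (φ.hom.app _ v) := by
    refine (congrArg _ (eta_fromRow F m V x).symm).trans ?_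
    exact ConcreteCategory.congr_hom (congrArg
      (fun ψ => ψ.hom.app (op ((Opens.map (tB Y (lv m))).obj V))) (eta_str F g.op hh)) v
  have e2 : ((rowS Y T).map g).hom.app (op V) x =
      T.obj.map (show (⟨lv m', (Opens.map (tB Y (lv m'))).obj V⟩ : ∫ᶜ (OpensFib.F Y)) ⟶
          ⟨lv m', (Opens.map (Y.map g.op)).obj ((Opens.map (tB Y (lv m))).obj V)⟩ from
        (ι (OpensFib.F Y) (lv m')).map
          (show (show Opens (Y.obj (lv m')) from (Opens.map (tB Y (lv m'))).obj V) ⟶
            (Opens.map (Y.map g.op)).obj ((Opens.map (tB Y (lv m))).obj V) from homOfLE hle)).op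
        (((str g.op).app T).hom.app (op ((Opens.map (tB Y (lv m))).obj V)) x) := by
    refine Eq.trans ?_ (ConcreteCategory.congr_hom (T.obj.map_comp _ _) x)
    exact congrArg (fun a => (T.obj.map a).hom x) (Quiver.Hom.unop_inj (hom_ext (Category.id_comp _).symm))
  rw [rowEval, rowEval, ← fibEval_φ F s g.op hh hV hle ((fromRow F m V).hom x) z]
  refine congrArg (fun w => fibEval F s hV w z) ?_
  rw [e2, e1]
  refine (congrArg (fromRow F m' V).hom (ConcreteCategory.congr_hom
    (((eta Y (lv m')).app F).hom.naturality (homOfLE hle).op) (φ.hom.app _ v)).symm).trans ?_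
  exact fromRow_eta F m' V _

lemma rowD_one {V : Opens (base Y)} (T : TA Y) (x : ((rowS Y T).obj (ix 1)).obj.obj (op V)) :
    ((rowD T 1).hom.app (op V)).hom x =
      ((rowS Y T).map (face 1 0)).hom.app (op V) x - ((rowS Y T).map (face 1 1)).hom.app (op V) x := by
  rw [rowD_app, altD, Fin.sum_univ_two]
  simp only [Fin.val_zero, pow_zero, one_smul, Fin.val_one, pow_one, neg_smul, ← sub_eq_add_neg]
  rfl

variable (hcl₀ : IsClosedMap (tB Y (lv 0))) (hcl₁ : IsClosedMap (tB Y (lv 1)))
  (hne : Nonempty (fib Y s (lv 0)))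
  (hpair : ∀ a b : fib Y s (lv 0), ∃ w : fib Y s (lv 1),
    fmap Y s (face 1 0).op w = a ∧ fmap Y s (face 1 1).op w = b)

include hcl₀ hne hpair in
/-- The unit is bijective on stalks. -/
theorem bijective_stk_unit :
    Function.Bijective ((stk s).map ((θAdj Y).unit.app F)).hom := by
  let P := (θP Y).obj F
  let i₀ := (row0Iso Y).app P
  let ρ : (stk s).obj ((θS Y).obj P) ⟶ (SF Y s 1).obj P := (stk s).map i₀.inv ≫ (sD Y s 0).app P
  have hρ : Function.Injective ρ.hom := by
    refine (injective_iff_map_eq_zero _).2 fun a ha => ?_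
    have := eq_zero_of_sD s P _ ha
    have h := congrArg ((stk s).map i₀.hom).hom this
    rw [map_zero] at h
    exact (ConcreteCategory.congr_hom ((stk s).mapIso i₀).inv_hom_id a).symm.trans h
  have hρg : ∀ {V : Opens (base Y)} (hV : s ∈ V) (y : ((θS Y).obj P).obj.obj (op V)),
      ρ.hom (PBC.gm ((θS Y).obj P) s hV y) = PBC.gm ((RowF Y 1).obj P) s hV
        (((rowNat Y 0).app P).hom.app (op V) (i₀.inv.hom.app (op V) y)) := fun {V} hV y =>
    (congrArg ((sD Y s 0).app P).hom
      (TopCat.Presheaf.stalkFunctor_map_germ_apply V s hV i₀.inv.hom y)).trans (sD_germ s 0 P hV _)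
  have hlev : ∀ {V : Opens (base Y)} (x : F.obj.obj (op V)),
      ((rowNat Y 0).app P).hom.app (op V) (i₀.inv.hom.app (op V) (((θAdj Y).unit.app F).hom.app (op V) x)) =
        ((toLevel Y (lv 0)).app F).hom.app (op V) x := by
    intro V x
    let T := (OpensRestrict.ranS Y).obj P
    have hD : ((rowNat Y 0).app P).hom.app (op V) = ((rowS Y T).map (face 0 0)).hom.app (op V) := by
      rw [show ((rowNat Y 0).app P).hom.app (op V) = _ from rowD_app T 0 V, altD, Fin.sum_univ_one,
        Fin.val_zero, pow_zero, one_smul]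
      rfl
    rw [hD]
    let y := ((θAdj Y).unit.app F).hom.app (op V) x
    refine (congrArg _ (row0Iso_inv_app P V y)).trans ?_
    refine (ConcreteCategory.congr_hom (T.obj.map_comp _ _).symm y).trans ?_
    exact congrArg (fun a => (T.obj.map a).hom y) (Quiver.Hom.unop_inj (hom_ext (bot_ext _ _)))
  have hval : ∀ {V : Opens (base Y)} (hV : s ∈ V) (x : F.obj.obj (op V)) (z : fib Y s (lv 0)),
      rowEval F s 0 hV (((rowNat Y 0).app P).hom.app (op V)
        (i₀.inv.hom.app (op V) (((θAdj Y).unit.app F).hom.app (op V) x))) z = PBC.gm F s hV x :=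
    fun hV x z => by rw [hlev]; exact rowEval_toLevel F s 0 hV x z
  constructor
  · refine (injective_iff_map_eq_zero _).2 fun c hc => ?_
    obtain ⟨V, hV, x, rfl⟩ := TopCat.Presheaf.exists_germ_eq F.obj c
    obtain ⟨W, hW, i, i', e⟩ := TopCat.Presheaf.germ_eq ((θS Y).obj P).obj s hV hV
      (((θAdj Y).unit.app F).hom.app (op V) x) 0
      (((TopCat.Presheaf.stalkFunctor_map_germ_apply V s hV ((θAdj Y).unit.app F).hom x).symm.trans hc).trans
        (map_zero _).symm)
    obtain ⟨z⟩ := hne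
    refine (TopCat.Presheaf.germ_res_apply F.obj i s hW x).symm.trans ?_
    refine (hval hW (F.obj.map i.op x) z).symm.trans ?_
    rw [show ((θAdj Y).unit.app F).hom.app (op W) (F.obj.map i.op x) = 0 from
      (ConcreteCategory.congr_hom (((θAdj Y).unit.app F).hom.naturality i.op) x).trans (e.trans (map_zero _))]
    rw [map_zero, map_zero]
    exact rowEval_zero F s 0 hW z
  · intro a
    obtain ⟨V, hV, y, rfl⟩ := TopCat.Presheaf.exists_germ_eq ((θS Y).obj P).obj a
    let x₁ := ((rowNat Y 0).app P).hom.app (op V) (i₀.inv.hom.app (op V) y)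
    have hd : ((rowD ((OpensRestrict.ranS Y).obj P) 1).hom.app (op V)).hom x₁ = 0 :=
      ConcreteCategory.congr_hom (congrArg (fun φ => φ.hom.app (op V))
        (congr_app (rowNat_rowNat (Y := Y) 0) P)) _
    rw [rowD_one] at hd
    have hconst : ∀ z w, rowEval F s 0 hV x₁ z = rowEval F s 0 hV x₁ w := by
      intro z w
      obtain ⟨t, h1, h2⟩ := hpair z w
      rw [← h1, ← h2, ← rowEval_map F s 0 1 (face 1 0) hV x₁ t, ← rowEval_map F s 0 1 (face 1 1) hV x₁ t,
        sub_eq_zero.1 hd]
    obtain ⟨z₀⟩ := hne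
    obtain ⟨U, hU, v, hv⟩ := TopCat.Presheaf.exists_germ_eq F.obj (rowEval F s 0 hV x₁ z₀)
    refine ⟨PBC.gm F s hU v, hρ ?_⟩
    have hW : s ∈ V ⊓ U := ⟨hV, hU⟩
    have e1 : ((stk s).map ((θAdj Y).unit.app F)).hom (PBC.gm F s hU v) =
        PBC.gm ((θS Y).obj P) s hW
          (((θAdj Y).unit.app F).hom.app (op (V ⊓ U)) (F.obj.map (homOfLE inf_le_right).op v)) :=
      (congrArg _ (PBC.gm_res F inf_le_right s hW v).symm).trans
        (TopCat.Presheaf.stalkFunctor_map_germ_apply (V ⊓ U) s hW ((θAdj Y).unit.app F).hom _)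
    rw [e1]
    refine (hρg hW _).trans (Eq.trans ?_ ((hρg hW _).symm.trans
      (congrArg ρ.hom (PBC.gm_res ((θS Y).obj P) (inf_le_left : V ⊓ U ≤ V) s hW y))))
    refine sub_eq_zero.1 ((map_sub _ _ _).symm.trans (eq_zero_of_rowEval F s 0 hcl₀ hW _ fun z => ?_))
    have hres : ∀ z, rowEval F s 0 hW (((rowNat Y 0).app P).hom.app (op (V ⊓ U))
        (i₀.inv.hom.app (op (V ⊓ U)) (((θS Y).obj P).obj.map (homOfLE inf_le_left).op y))) z =
        rowEval F s 0 hV x₁ z := by
      intro z
      have n1 := ConcreteCategory.congr_hom ((i₀.inv ≫ (rowNat Y 0).app P).hom.naturality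
        (homOfLE (inf_le_left : V ⊓ U ≤ V)).op) y
      refine (congrArg (fun w => rowEval F s 0 hW w z) n1).trans ?_
      show fibEval F s hW ((fromRow F 0 (V ⊓ U)).hom _) z = fibEval F s hV ((fromRow F 0 V).hom x₁) z
      refine (congrArg (fun w => fibEval F s hW w z) (ConcreteCategory.congr_hom
        (((etaIso Y (op (SimplexCategory.mk 0))).inv.app F).hom.naturality
          ((Opens.map (tB Y (lv 0))).map (homOfLE (inf_le_left : V ⊓ U ≤ V))).op) x₁)).trans ?_
      refine congrArg (eqToHom (congrArg (CohTop.stalk F) z.2)).hom ?_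
      exact (Etale.secFam_eq_iff _ F _ _ z.1 _ _).2
        ((TopCat.Presheaf.germ_res_apply _ ((Opens.map (tB Y (lv 0))).map (homOfLE inf_le_left)) z.1
          (show tB Y (lv 0) z.1 ∈ V ⊓ U by rw [z.2]; exact hW) _).trans
          ((Etale.secFam_eq_iff _ F _ _ z.1 _ _).1 rfl))
    have hsub : ∀ (a b : ((RowF Y 1).obj P).obj.obj (op (V ⊓ U))),
        rowEval F s 0 hW (a - b) z = rowEval F s 0 hW a z - rowEval F s 0 hW b z := fun a b => by
      simp [rowEval, fibEval, Etale.secFam, PBC.gm, map_sub]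
    rw [hsub, hval, hres, PBC.gm_res, show PBC.gm F s hU v = rowEval F s 0 hV x₁ z₀ from hv,
      hconst z₀ z, sub_self]

end Groth.Agent.H15Site.DescSimp
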